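import Cfsg.Agent.Lib.SLPres.Target
import Cfsg.Agent.Lib.SymPres.Final
import Cfsg.Agent.Lib.BoundedPres.PSL
import Cfsg.Agent.S3377

/-!
`SL_n(F)` has a presentation on seven generators with twenty-five relations.
-/

set_option autoImplicit false

namespace CfsgLib.SLPres

open Equiv
open CfsgLib.BoundedPres (Kills PresOn hom_lift exists_word first3 first3_inj first3_ne_fourth fourth dswap
  coe_dswap dswap_apply cycA cycA_apply revA oppA blockSL permSL blockSL_root permSL_conj blockSL_cT)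
open CfsgLib.PresentSL3 (sT cT sT_sq sT_cT cT_cube)

variable {F : Type*} [Field F] [Fintype F] {m : ℕ}

/-- Letters for the gluing relations. -/
abbrev Letters (F : Type*) [Field F] (m : ℕ) :=
  Matrix.SpecialLinearGroup (Fin 3) F ⊕ alternatingGroup (Fin (3 + m))

/-- The interpretation of the letters. -/
def interp {G : Type*} [Group G] (ι : Matrix.SpecialLinearGroup (Fin 3) F →* G)
    (ψ : alternatingGroup (Fin (3 + m)) →* G) : Letters F m → G :=
  Sum.elim ι ψ

omit [Fintype F] in
/-- Words for the letters translate the interpretation. -/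
theorem lift_letters {XA : Type} {v3 : Fin 4 → Matrix.SpecialLinearGroup (Fin 3) F}
    {vA : XA → alternatingGroup (Fin (3 + m))}
    {w3 : Matrix.SpecialLinearGroup (Fin 3) F → FreeGroup (Fin 4)}
    (hw3 : ∀ g, FreeGroup.lift v3 (w3 g) = g) {wA : alternatingGroup (Fin (3 + m)) → FreeGroup XA}
    (hwA : ∀ g, FreeGroup.lift vA (wA g) = g) {G : Type*} [Group G] (f : Fin 4 ⊕ XA → G)
    (ι : Matrix.SpecialLinearGroup (Fin 3) F →* G) (ψ : alternatingGroup (Fin (3 + m)) →* G)
    (hι : ∀ x, ι (v3 x) = f (Sum.inl x)) (hψ : ∀ x, ψ (vA x) = f (Sum.inr x))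
    (e : FreeGroup (Letters F m)) :
    FreeGroup.lift f (FreeGroup.lift (Sum.elim
        (fun g => FreeGroup.lift (fun x => FreeGroup.of (Sum.inl x)) (w3 g))
        (fun g => FreeGroup.lift (fun x => FreeGroup.of (Sum.inr x)) (wA g))) e) =
      FreeGroup.lift (interp ι ψ) e := by
  refine hom_lift (FreeGroup.lift f) (fun x => ?_) e
  rcases x with g | g
  · show FreeGroup.lift f (FreeGroup.lift (fun x => FreeGroup.of (Sum.inl x)) (w3 g)) = ι g
    rw [CfsgLib.BoundedPres.lift_sum_inl (v := v3) f ι hι, hw3]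
  · show FreeGroup.lift f (FreeGroup.lift (fun x => FreeGroup.of (Sum.inr x)) (wA g)) = ψ g
    rw [CfsgLib.BoundedPres.lift_sum_inr (v := vA) f ψ hψ, hwA]

/-- A presentation of `SL_n(F)` from gluing relations. -/
theorem presOn_of_glue (hm : 1 ≤ m) {XA : Type} {r : ℕ}
    (hA : PresOn XA (alternatingGroup (Fin (3 + m))) r) (E : List (FreeGroup (Letters F m)))
    (hE : Kills (interp (blockSL (F := F) (3 + m) m rfl) (permSL (3 + m))) E)
    (hbound : ∀ (G : Type) [Group G] (ι : Matrix.SpecialLinearGroup (Fin 3) F →* G)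
      (ψ : alternatingGroup (Fin (3 + m)) →* G), Kills (interp ι ψ) E → ι.range ⊔ ψ.range = ⊤ →
        Finite G ∧ Nat.card G ≤ Nat.card (Matrix.SpecialLinearGroup (Fin (3 + m)) F)) :
    PresOn (Fin 4 ⊕ XA) (Matrix.SpecialLinearGroup (Fin (3 + m)) F) (13 + r + E.length) := by
  classical
  obtain ⟨rels3, hc3, ⟨iso3⟩⟩ := CfsgLib.PresentSL3.presentation_sl_three_thirteen (F := F)
  obtain ⟨v3, L3, hl3, hv3, hg3, huniv3⟩ := PresOn.of_iso rels3 hc3 iso3
  obtain ⟨vA, LA, hlA, hvA, hgA, hunivA⟩ := hA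
  choose w3 hw3 using fun g : Matrix.SpecialLinearGroup (Fin 3) F => exists_word hg3 g
  choose wA hwA using fun g : alternatingGroup (Fin (3 + m)) => exists_word hgA g
  let iX : FreeGroup (Fin 4) →* FreeGroup (Fin 4 ⊕ XA) := FreeGroup.lift fun x => FreeGroup.of (Sum.inl x)
  let iA : FreeGroup XA →* FreeGroup (Fin 4 ⊕ XA) := FreeGroup.lift fun x => FreeGroup.of (Sum.inr x)
  let σ : FreeGroup (Letters F m) →* FreeGroup (Fin 4 ⊕ XA) :=
    FreeGroup.lift (Sum.elim (fun g => iX (w3 g)) (fun g => iA (wA g)))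
  let L : List (FreeGroup (Fin 4 ⊕ XA)) := L3.map iX ++ (LA.map iA ++ E.map σ)
  refine PresOn.mono ?_ (show L.length ≤ 13 + r + E.length by simp [L]; omega)
  set v2 : Fin 4 ⊕ XA → Matrix.SpecialLinearGroup (Fin (3 + m)) F :=
    Sum.elim (fun x => blockSL (3 + m) m rfl (v3 x)) (fun x => permSL (3 + m) (vA x)) with hv2
  refine PresOn.of_bound v2 L ?_ ?_ ?_
  · intro z hz
    simp only [L, List.mem_append, List.mem_map] at hz
    rcases hz with ⟨y, hy, rfl⟩ | ⟨y, hy, rfl⟩ | ⟨y, hy, rfl⟩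
    · rw [CfsgLib.BoundedPres.lift_sum_inl (v := v3) v2 (blockSL (3 + m) m rfl) (fun x => rfl), hv3 y hy,
        map_one]
    · rw [CfsgLib.BoundedPres.lift_sum_inr (v := vA) v2 (permSL (3 + m)) (fun x => rfl), hvA y hy, map_one]
    · rw [lift_letters hw3 hwA v2 (blockSL (3 + m) m rfl) (permSL (3 + m)) (fun x => rfl) (fun x => rfl)]
      exact hE y hy
  · let R := Subgroup.closure (Set.range v2)
    have hB' : ∀ g, blockSL (3 + m) m rfl g ∈ R := fun g => by
      show _ ∈ Subgroup.closure (Set.range v2)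
      rw [← hw3 g, ← CfsgLib.BoundedPres.lift_sum_inl (v := v3) v2 (blockSL (3 + m) m rfl) (fun x => rfl),
        ← FreeGroup.range_lift_eq_closure]
      exact ⟨_, rfl⟩
    have hA' : ∀ g, permSL (3 + m) g ∈ R := fun g => by
      show _ ∈ Subgroup.closure (Set.range v2)
      rw [← hwA g, ← CfsgLib.BoundedPres.lift_sum_inr (v := vA) v2 (permSL (3 + m)) (fun x => rfl),
        ← FreeGroup.range_lift_eq_closure]
      exact ⟨_, rfl⟩
    refine CfsgLib.Linear.SL_eq_top_of_transvection_mem _ fun i j hij c => ?_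
    obtain ⟨g, h0, h1⟩ := CfsgLib.BoundedPres.exists_pair_map (m := m) hm hij
    have e := permSL_conj (F := F) g ((first3_inj m).ne (show (0 : Fin 3) ≠ 1 by decide)) c
    simp only [h0, h1] at e
    rw [← e, ← blockSL_root (show (0 : Fin 3) ≠ 1 by decide)]
    exact R.mul_mem (R.mul_mem (hA' g) (hB' _)) (R.inv_mem (hA' g))
  · intro G _ φ f _ hf hk
    obtain ⟨ι, hι⟩ := huniv3 G (fun x => f (Sum.inl x)) fun z hz => by
      have h := hk _ (List.mem_append_left _ (List.mem_map_of_mem hz))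
      rw [← hom_lift (FreeGroup.lift f) (v := fun x => FreeGroup.of (Sum.inl x)) (fun x => by simp) z]
      exact h
    obtain ⟨ψ, hψ⟩ := hunivA G (fun x => f (Sum.inr x)) fun z hz => by
      have h := hk _ (List.mem_append_right _ (List.mem_append_left _ (List.mem_map_of_mem hz)))
      rw [← hom_lift (FreeGroup.lift f) (v := fun x => FreeGroup.of (Sum.inr x)) (fun x => by simp) z]
      exact h
    refine hbound G ι ψ (fun e he => ?_) ?_
    · rw [← lift_letters hw3 hwA f ι ψ hι hψ]
      exact hk _ (List.mem_append_right _ (List.mem_append_right _ (List.mem_map_of_mem he)))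
    · rw [eq_top_iff, ← hf, Subgroup.closure_le]
      rintro _ ⟨y | y, rfl⟩
      · exact Subgroup.mem_sup_left ⟨v3 y, hι y⟩
      · exact Subgroup.mem_sup_right ⟨vA y, hψ y⟩

/-- The commutator word. -/
def cw {X : Type*} (u v : FreeGroup X) : FreeGroup X := u * v * u⁻¹ * v⁻¹

theorem lift_cw {X : Type*} {G : Type*} [Group G] (f : X → G) (u v : FreeGroup X) :
    FreeGroup.lift f (cw u v) = 1 ↔ Commute (FreeGroup.lift f u) (FreeGroup.lift f v) := by
  rw [cw, map_mul, map_mul, map_mul, map_inv, map_inv, mul_inv_eq_one, mul_inv_eq_iff_eq_mul]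
  rfl

section Words

variable (F)

/-- A letter of the block. -/
def lX (g : Matrix.SpecialLinearGroup (Fin 3) F) : FreeGroup (Letters F m) := FreeGroup.of (Sum.inl g)

/-- A letter of the alternating group. -/
def lA (g : alternatingGroup (Fin (3 + m))) : FreeGroup (Letters F m) := FreeGroup.of (Sum.inr g)

/-- The identification of the rotations. -/
def eC : FreeGroup (Letters F m) := lX F cT * (lA F (cycA m))⁻¹

/-- An involution acts like the reflection. -/
def eRev (τ : alternatingGroup (Fin (3 + m))) (g : Matrix.SpecialLinearGroup (Fin 3) F) :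
    FreeGroup (Letters F m) :=
  cw ((lX F sT)⁻¹ * lA F τ) (lX F g)

/-- A permutation commutes with an element of the block. -/
def eFix (σ : alternatingGroup (Fin (3 + m))) (g : Matrix.SpecialLinearGroup (Fin 3) F) :
    FreeGroup (Letters F m) :=
  cw (lA F σ) (lX F g)

/-- The block commutes with a disjoint one. -/
def eOpp (hm : 1 ≤ m) (g g' : Matrix.SpecialLinearGroup (Fin 3) F) : FreeGroup (Letters F m) :=
  cw (lX F g) (lA F (oppA m hm) * lX F g' * (lA F (oppA m hm))⁻¹)

end Words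

section Facts

omit [Fintype F]

variable {G : Type*} [Group G] (ι : Matrix.SpecialLinearGroup (Fin 3) F →* G)
  (ψ : alternatingGroup (Fin (3 + m)) →* G)

theorem lift_eC : FreeGroup.lift (interp ι ψ) (eC F) = 1 ↔ ι cT = ψ (cycA m) := by
  simp [eC, lX, lA, interp, mul_inv_eq_one]

theorem lift_eRev (τ : alternatingGroup (Fin (3 + m))) (g : Matrix.SpecialLinearGroup (Fin 3) F) :
    FreeGroup.lift (interp ι ψ) (eRev F τ g) = 1 ↔ Commute ((ι sT)⁻¹ * ψ τ) (ι g) := by
  simp [eRev, lift_cw, lX, lA, interp]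

theorem lift_eFix (σ : alternatingGroup (Fin (3 + m))) (g : Matrix.SpecialLinearGroup (Fin 3) F) :
    FreeGroup.lift (interp ι ψ) (eFix F σ g) = 1 ↔ Commute (ψ σ) (ι g) := by
  simp [eFix, lift_cw, lX, lA, interp]

theorem lift_eOpp (hm : 1 ≤ m) (g g' : Matrix.SpecialLinearGroup (Fin 3) F) :
    FreeGroup.lift (interp ι ψ) (eOpp F hm g g') = 1 ↔
      Commute (ι g) (ψ (oppA m hm) * ι g' * (ψ (oppA m hm))⁻¹) := by
  simp [eOpp, lift_cw, lX, lA, interp]

theorem blockSL_cycA : blockSL (F := F) (3 + m) m rfl cT = permSL (3 + m) (cycA m) :=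
  blockSL_cT rfl (cycA m) rfl

theorem revA_swap (hm : 1 ≤ m) : ∀ i ∈ ({0, 1} : Set (Fin 3)),
    (revA m hm : Perm (Fin (3 + m))) (first3 m i) = first3 m (Equiv.swap 0 1 i) := by
  obtain ⟨e0, e1, -, -⟩ := dswap_apply (hab := (first3_inj m).ne (show (0 : Fin 3) ≠ 1 by decide))
    (hcd := first3_ne_fourth hm 2) ((first3_inj m).ne (show (0 : Fin 3) ≠ 2 by decide))
    (first3_ne_fourth hm 0) ((first3_inj m).ne (show (1 : Fin 3) ≠ 2 by decide)) (first3_ne_fourth hm 1)
  rintro i (rfl | rfl)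
  exacts [e0, e1]

theorem revB_swap (hm : 2 ≤ m) (i : Fin 3) :
    (revB m hm : Perm (Fin (3 + m))) (first3 m i) = first3 m (Equiv.swap 0 1 i) := by
  fin_cases i <;> simp [revB, coe_dswap, Equiv.swap_apply_def, Fin.ext_iff]

theorem h234_fix (hm : 2 ≤ m) : ∀ i ∈ ({0, 1} : Set (Fin 3)),
    (h234 m hm : Perm (Fin (3 + m))) (first3 m i) = first3 m i := by
  rintro i (rfl | rfl) <;> simp [h234, coe_dswap, Equiv.swap_apply_def, Fin.ext_iff]

theorem h234_stab {a : Matrix.SpecialLinearGroup (Fin 3) F} (hm : 2 ≤ m) (ha : IsPairElt a)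
    (hrevB : ∀ z ∈ Lsub F, Commute ((ι sT)⁻¹ * ψ (revB m hm)) (ι z))
    (hh : Commute (ψ (h234 m hm)) (ι a)) : ∀ z ∈ Lsub F, Commute (ψ (h234 m hm)) (ι z) := by
  refine commute_Lsub ι ha hh ?_
  have := hh.map (MulAut.conj (ψ (revB m hm))).toMonoidHom
  simp only [MulEquiv.toMonoidHom_eq_coe, MonoidHom.coe_coe, MulAut.conj_apply] at this
  rw [rev_conj ι ψ (hrevB a ha.1), ← map_inv, ← map_mul, ← map_mul, revB_h234 hm, map_inv] at this
  simpa using this.inv_left

theorem stab_from_fix (hm : 2 ≤ m) {z : Matrix.SpecialLinearGroup (Fin 3) F}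
    (hh : Commute (ψ (h234 m hm)) (ι z))
    (hK : ∀ g : alternatingGroup (Fin (3 + m)),
      (∀ a, (g : Perm (Fin (3 + m))) (first3 m a) = first3 m a) → Commute (ψ g) (ι z))
    (g : alternatingGroup (Fin (3 + m))) (g0 : (g : Perm (Fin (3 + m))) (first3 m 0) = first3 m 0)
    (g1 : (g : Perm (Fin (3 + m))) (first3 m 1) = first3 m 1) : Commute (ψ g) (ι z) :=
  Subgroup.mem_centralizer_singleton_iff.1
    (mem_of_h234 hm ((Subgroup.centralizer ({ι z} : Set G)).comap ψ)
      (Subgroup.mem_centralizer_singleton_iff.2 hh.eq)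
      (fun g hg => Subgroup.mem_centralizer_singleton_iff.2 (hK g hg).eq) g g0 g1)

theorem revA_from_revB (hm : 2 ≤ m)
    (hrevB : ∀ z ∈ Lsub F, Commute ((ι sT)⁻¹ * ψ (revB m hm)) (ι z))
    (hstab : ∀ g : alternatingGroup (Fin (3 + m)), (g : Perm (Fin (3 + m))) (first3 m 0) = first3 m 0 →
      (g : Perm (Fin (3 + m))) (first3 m 1) = first3 m 1 → ∀ z ∈ Lsub F, Commute (ψ g) (ι z)) :
    ∀ z ∈ Lsub F, Commute ((ι sT)⁻¹ * ψ (revA m (by omega))) (ι z) := by
  intro z hz
  have hA := revA_swap (m := m) (show 1 ≤ m by omega)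
  have hfix : ∀ i ∈ ({0, 1} : Set (Fin 3)),
      ((revB m hm * revA m (by omega) : alternatingGroup (Fin (3 + m))) : Perm (Fin (3 + m))) (first3 m i) =
        first3 m i := fun i hi => by
    rw [Subgroup.coe_mul, Perm.mul_apply, hA i hi, revB_swap, Equiv.swap_apply_self]
  have := (hrevB z hz).mul_left (hstab _ (hfix 0 (by simp)) (hfix 1 (by simp)) z hz)
  rwa [mul_assoc, ← map_mul, ← mul_assoc, revB_mul_self hm, one_mul] at this

end Facts

/-- Equal relators give the same group. -/
def presEquivOfEq {X : Type} {R R' : Set (FreeGroup X)} (h : R = R') : PresentedGroup R ≃* PresentedGroup R' := by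
  subst h; exact MulEquiv.refl _

theorem center_quotient {X : Type} {r : ℕ} (n : ℕ) (hn : 0 < n)
    (h : PresOn X (Matrix.SpecialLinearGroup (Fin n) F) r) :
    PresOn X (Matrix.ProjectiveSpecialLinearGroup (Fin n) F) (r + 1) := by
  obtain ⟨z, hz⟩ := CfsgLib.BoundedPres.center_normalClosure (F := F) n hn
  exact h.quotient _ z hz

/-- Four indices. -/
theorem presOn_SL_four : PresOn (Fin 6) (Matrix.SpecialLinearGroup (Fin 4) F) 21 := by
  obtain ⟨a, ha⟩ := exists_isPairElt (F := F)
  let E : List (FreeGroup (Letters F 1)) :=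
    [eC F, eRev F (revA 1 le_rfl) a, eOpp F le_rfl a a, eOpp F le_rfl a (sT * a * sT)]
  refine ((presOn_of_glue (F := F) (m := 1) le_rfl CfsgLib.SymPres.presOn_alt_four E ?_ ?_).mono
    (show 13 + 3 + E.length ≤ 21 by simp [E])).reindex finSumFinEquiv
  · intro e he
    simp only [E, List.mem_cons, List.not_mem_nil, or_false] at he
    rcases he with rfl | rfl | rfl | rfl
    · exact (lift_eC _ _).2 blockSL_cycA
    · exact (lift_eRev _ _ _ _).2 (rev_target _ _ (revA_swap le_rfl) (Lsub_le_rootSet ha.1))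
    · exact (lift_eOpp _ _ _ _ _).2 (opp_target le_rfl ha.1 ha.1)
    · exact (lift_eOpp _ _ _ _ _).2 (opp_target le_rfl ha.1 (Lsub_sT ha.1))
  · intro G _ ι ψ hk hgen
    have rc := (lift_eC ι ψ).1 (hk _ (by simp [E]))
    have hrev := rev_Lsub ι ψ (revA_mul_self le_rfl) ha ((lift_eRev ι ψ _ _).1 (hk _ (by simp [E])))
    refine card_le_of_facts ι ψ le_rfl rc (fun g g0 g1 z _ => ?_) hrev
      (hopp_of_two ι ψ le_rfl ha hrev ((lift_eOpp ι ψ _ _ _).1 (hk _ (by simp [E])))
        ((lift_eOpp ι ψ _ _ _).1 (hk _ (by simp [E])))) hgen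
    have h : ∀ π : Perm (Fin 4), Perm.sign π = 1 → π 0 = 0 → π 1 = 1 → π = 1 := by decide
    rw [show g = 1 from Subtype.ext (h g.1 g.2 g0 g1), map_one]
    exact Commute.one_left _

/-- Five indices. -/
theorem presOn_SL_five : PresOn (Fin 6) (Matrix.SpecialLinearGroup (Fin 5) F) 22 := by
  classical
  obtain ⟨a, ha⟩ := exists_isPairElt (F := F)
  have hA5 : PresOn (Fin 2) (alternatingGroup (Fin 5)) 3 := by
    obtain ⟨e⟩ := Cfsg.Agent.S3377.result
    refine PresOn.of_iso ({FreeGroup.of (0 : Fin 2) ^ 3, FreeGroup.of (1 : Fin 2) ^ 5,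
      (FreeGroup.of (0 : Fin 2) * FreeGroup.of 1) ^ 2} : Finset (FreeGroup (Fin 2))) Finset.card_le_three ?_
    exact (presEquivOfEq (by simp)).trans e
  let E : List (FreeGroup (Letters F 2)) :=
    [eC F, eRev F (revB 2 le_rfl) a, eFix F (h234 2 le_rfl) a, eOpp F (by omega) a a,
      eOpp F (by omega) a (sT * a * sT)]
  refine ((presOn_of_glue (F := F) (m := 2) (by omega) hA5 E ?_ ?_).mono
    (show 13 + 3 + E.length ≤ 22 by simp [E])).reindex finSumFinEquiv
  · intro e he
    simp only [E, List.mem_cons, List.not_mem_nil, or_false] at he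
    rcases he with rfl | rfl | rfl | rfl | rfl
    · exact (lift_eC _ _).2 blockSL_cycA
    · exact (lift_eRev _ _ _ _).2 (rev_target _ _ (fun i _ => revB_swap le_rfl i) (Lsub_le_rootSet ha.1))
    · exact (lift_eFix _ _ _ _).2 (fix_target _ _ (h234_fix le_rfl) (Lsub_le_rootSet ha.1))
    · exact (lift_eOpp _ _ _ _ _).2 (opp_target _ ha.1 ha.1)
    · exact (lift_eOpp _ _ _ _ _).2 (opp_target _ ha.1 (Lsub_sT ha.1))
  · intro G _ ι ψ hk hgen
    have rc := (lift_eC ι ψ).1 (hk _ (by simp [E]))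
    have hrevB := rev_Lsub ι ψ (revB_mul_self le_rfl) ha ((lift_eRev ι ψ _ _).1 (hk _ (by simp [E])))
    have hh := h234_stab ι ψ le_rfl ha hrevB ((lift_eFix ι ψ _ _).1 (hk _ (by simp [E])))
    have hstab : ∀ g : alternatingGroup (Fin (3 + 2)), (g : Perm (Fin (3 + 2))) (first3 2 0) = first3 2 0 →
        (g : Perm (Fin (3 + 2))) (first3 2 1) = first3 2 1 → ∀ z ∈ Lsub F, Commute (ψ g) (ι z) :=
      fun g g0 g1 z hz => stab_from_fix ι ψ le_rfl (hh z hz) (fun g hg => by
        have h : ∀ π : Perm (Fin 5), Perm.sign π = 1 → π 0 = 0 → π 1 = 1 → π 2 = 2 → π = 1 := by decide +kernel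
        rw [show g = 1 from Subtype.ext (h g.1 g.2 (hg 0) (hg 1) (hg 2)), map_one]
        exact Commute.one_left _) g g0 g1
    have hrev := revA_from_revB ι ψ le_rfl hrevB hstab
    exact card_le_of_facts ι ψ (by omega) rc hstab hrev
      (hopp_of_two ι ψ (by omega) ha hrev ((lift_eOpp ι ψ _ _ _).1 (hk _ (by simp [E])))
        ((lift_eOpp ι ψ _ _ _).1 (hk _ (by simp [E])))) hgen

/-- The double transposition on the third, fourth, fifth and sixth index. -/
def flipB (m : ℕ) (hm : 3 ≤ m) : alternatingGroup (Fin (3 + m)) :=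
  dswap (first3 m 2) (fourth m (by omega)) (fifth m (by omega)) ⟨5, by omega⟩ (first3_ne_fourth (by omega) 2)
    (by simp [Fin.ext_iff])

theorem flipB_fix (hm : 3 ≤ m) :
    (flipB m hm : Perm (Fin (3 + m))) (first3 m 0) = first3 m 0 ∧
      (flipB m hm : Perm (Fin (3 + m))) (first3 m 1) = first3 m 1 ∧
      ((revA m (by omega) * (oppA m (by omega) * flipB m hm * oppA m (by omega)) :
        alternatingGroup (Fin (3 + m))) : Perm (Fin (3 + m))) (first3 m 0) = first3 m 0 ∧
      ((revA m (by omega) * (oppA m (by omega) * flipB m hm * oppA m (by omega)) :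
        alternatingGroup (Fin (3 + m))) : Perm (Fin (3 + m))) (first3 m 1) = first3 m 1 := by
  simp [flipB, revA, oppA, coe_dswap, Equiv.swap_apply_def, Fin.ext_iff]

/-- At least six indices. -/
theorem presOn_SL_seven (hm : 3 ≤ m) : PresOn (Fin 7) (Matrix.SpecialLinearGroup (Fin (3 + m)) F) 25 := by
  obtain ⟨a, ha⟩ := exists_isPairElt (F := F)
  obtain ⟨y, hy⟩ := exists_rot_gen (F := F)
  have hm1 : 1 ≤ m := by omega
  have hm2 : 2 ≤ m := by omega
  obtain ⟨σ, hσfix, hσgen⟩ := exists_stab3_gen hm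
  let E : List (FreeGroup (Letters F m)) :=
    [eC F, eRev F (revB m hm2) y, eFix F σ y, eFix F (h234 m hm2) a, eOpp F hm1 a a]
  refine ((presOn_of_glue (F := F) hm1 (CfsgLib.SymPres.alt_presentations (n := 3 + m) (by omega)).1 E ?_
    ?_).mono (show 13 + 7 + E.length ≤ 25 by simp [E])).reindex finSumFinEquiv
  · intro e he
    simp only [E, List.mem_cons, List.not_mem_nil, or_false] at he
    rcases he with rfl | rfl | rfl | rfl | rfl
    · exact (lift_eC _ _).2 blockSL_cycA
    · exact (lift_eRev _ _ _ _).2 (rev_target _ _ (fun i _ => revB_swap hm2 i) (mem_rootSet_univ y))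
    · exact (lift_eFix _ _ _ _).2 (fix_target _ _ (fun i _ => hσfix i) (mem_rootSet_univ y))
    · exact (lift_eFix _ _ _ _).2 (fix_target _ _ (h234_fix hm2) (Lsub_le_rootSet ha.1))
    · exact (lift_eOpp _ _ _ _ _).2 (opp_target hm1 ha.1 ha.1)
  · intro G _ ι ψ hk hgen
    have rc := (lift_eC ι ψ).1 (hk _ (by simp [E]))
    have k1 := (lift_eRev ι ψ _ _).1 (hk (eRev F (revB m hm2) y) (by simp [E]))
    have k2 := (lift_eFix ι ψ _ _).1 (hk (eFix F σ y) (by simp [E]))
    have k3 := (lift_eFix ι ψ _ _).1 (hk (eFix F (h234 m hm2) a) (by simp [E]))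
    have k4 := (lift_eOpp ι ψ _ _ _).1 (hk (eOpp F hm1 a a) (by simp [E]))
    have htop : Subgroup.closure ({y, cT} : Set (Matrix.SpecialLinearGroup (Fin 3) F)) = ⊤ :=
      hy _ (Subgroup.subset_closure (by simp)) (Subgroup.subset_closure (by simp))
    -- the reflection on the whole block
    have hcyc : revB m hm2 * cycA m = (cycA m)⁻¹ * revB m hm2 := by
      apply Subtype.ext
      simp only [revB, cycA, Subgroup.coe_mul, InvMemClass.coe_inv, coe_dswap, mul_inv_rev, Equiv.swap_inv]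
      refine perm_ext_five fun x hx => ?_
      apply Fin.ext
      rcases hx with h | h | h | h | h | h
      iterate 5 simp [Equiv.swap_apply_def, Fin.ext_iff, h]
      simp [Equiv.swap_apply_def, Fin.ext_iff, show (x : ℕ) ≠ 0 by omega, show (x : ℕ) ≠ 1 by omega,
        show (x : ℕ) ≠ 2 by omega, show (x : ℕ) ≠ 3 by omega, show (x : ℕ) ≠ 4 by omega]
    have kc : Commute ((ι sT)⁻¹ * ψ (revB m hm2)) (ι cT) := by
      have e : ι sT * ι cT = (ι cT)⁻¹ * ι sT := by
        rw [← map_inv, ← map_mul, ← map_mul]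
        congr 1
        rw [show (cT : Matrix.SpecialLinearGroup (Fin 3) F)⁻¹ = cT * cT from
          inv_eq_of_mul_eq_one_right (by rw [← mul_assoc, cT_cube]), ← sT_cT, mul_assoc _ sT sT, sT_sq,
          mul_one]
      show _ = _
      calc (ι sT)⁻¹ * ψ (revB m hm2) * ι cT = (ι sT)⁻¹ * (ψ (revB m hm2) * ψ (cycA m)) := by
            rw [rc]; group
        _ = (ι sT)⁻¹ * (ι cT)⁻¹ * ψ (revB m hm2) := by
            rw [← map_mul, hcyc, map_mul, map_inv, ← rc]; group
        _ = ι cT * (ι sT)⁻¹ * ψ (revB m hm2) := by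
            congr 1
            rw [← map_inv ι sT, sT_inv]
            calc ι sT * (ι cT)⁻¹ = ι sT * (ι cT)⁻¹ * (ι sT * ι sT) := by
                  rw [← map_mul ι sT, sT_sq, map_one, mul_one]
              _ = ι sT * ((ι cT)⁻¹ * ι sT) * ι sT := by group
              _ = ι sT * (ι sT * ι cT) * ι sT := by rw [e]
              _ = ι cT * ι sT := by
                  rw [← mul_assoc (ι sT), ← map_mul ι sT sT, sT_sq, map_one, one_mul]
        _ = _ := by group
    have hB : ∀ g, Commute ((ι sT)⁻¹ * ψ (revB m hm2)) (ι g) := fun g =>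
      commute_of_mem ι (S := {y, cT}) (fun x hx => by rcases hx with rfl | rfl; exacts [k1, kc])
        (htop ▸ Subgroup.mem_top g)
    -- the permutations fixing the block
    have hσc : Commute σ (cycA m) := by
      refine Subtype.ext (Perm.Disjoint.commute fun z => ?_).eq
      by_cases hz : ∃ b, z = first3 m b
      · obtain ⟨b, rfl⟩ := hz; exact Or.inl (hσfix b)
      · push Not at hz
        refine Or.inr ?_
        rw [cycA, coe_dswap, Perm.mul_apply, Equiv.swap_apply_of_ne_of_ne (hz _) (hz _),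
          Equiv.swap_apply_of_ne_of_ne (hz _) (hz _)]
    have hσall : ∀ g, Commute (ψ σ) (ι g) := fun g =>
      commute_of_mem ι (S := {y, cT}) (fun x hx => by
        rcases hx with rfl | rfl
        · exact k2
        · rw [rc]; exact hσc.map ψ) (htop ▸ Subgroup.mem_top g)
    have hK : ∀ g : alternatingGroup (Fin (3 + m)),
        (∀ b, (g : Perm (Fin (3 + m))) (first3 m b) = first3 m b) → ∀ z, Commute (ψ g) (ι z) := by
      intro g hg z
      refine Subgroup.mem_centralizer_singleton_iff.1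
        (hσgen ((Subgroup.centralizer ({ι z} : Set G)).comap ψ)
          (Subgroup.mem_centralizer_singleton_iff.2 (hσall z).eq) ?_ g hg)
      refine Subgroup.mem_centralizer_singleton_iff.2 ?_
      have := (hσall (sT * z * sT)).map (MulAut.conj (ψ (revB m (by omega)))).toMonoidHom
      simp only [MulEquiv.toMonoidHom_eq_coe, MonoidHom.coe_coe, MulAut.conj_apply] at this
      rw [rev_conj ι ψ (hB _), show sT * (sT * z * sT) * sT = (sT * sT) * z * (sT * sT) by group, sT_sq,
        one_mul, mul_one, ← map_inv, ← map_mul, ← map_mul] at this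
      exact this.eq
    have hh := h234_stab ι ψ hm2 ha (fun z _ => hB z) k3
    have hstab : ∀ g : alternatingGroup (Fin (3 + m)), (g : Perm (Fin (3 + m))) (first3 m 0) = first3 m 0 →
        (g : Perm (Fin (3 + m))) (first3 m 1) = first3 m 1 → ∀ z ∈ Lsub F, Commute (ψ g) (ι z) :=
      fun g g0 g1 z hz => stab_from_fix ι ψ hm2 (hh z hz) (fun g hg => hK g hg z) g g0 g1
    have hrev := revA_from_revB ι ψ hm2 (fun z _ => hB z) hstab
    -- the second relation between disjoint blocks
    have c2 : Commute (ι a) (ψ (oppA m hm1) * ι (sT * a * sT) * (ψ (oppA m hm1))⁻¹) := by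
      obtain ⟨f0, f1, q0, q1⟩ := flipB_fix hm
      set S := ψ (flipB m hm)
      set g := ψ (oppA m hm1)
      set R := ψ (revA m hm1)
      have hgg : g * g = 1 := by rw [← map_mul, oppA_mul_self, map_one]
      have hRR : R * R = 1 := by rw [← map_mul, revA_mul_self, map_one]
      have hS : Commute S (ι a) := hstab _ f0 f1 a ha.1
      have hQ : Commute (R * (g * S * g)) (ι a) := by
        have := hstab _ q0 q1 a ha.1
        rwa [map_mul, map_mul, map_mul] at this
      have hT : (g * S * g) * ι a * (g * S * g)⁻¹ = ι (sT * a * sT) := by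
        rw [show g * S * g = R * (R * (g * S * g)) by rw [← mul_assoc, hRR, one_mul],
          show R * (R * (g * S * g)) * ι a * (R * (R * (g * S * g)))⁻¹ =
            R * ((R * (g * S * g)) * ι a) * (R * (g * S * g))⁻¹ * R⁻¹ by group, hQ.eq,
          show R * (ι a * (R * (g * S * g))) * (R * (g * S * g))⁻¹ * R⁻¹ = R * ι a * R⁻¹ by group]
        exact rev_conj ι ψ (hrev a ha.1)
      have h2 := k4.map (MulAut.conj S).toMonoidHom
      simp only [MulEquiv.toMonoidHom_eq_coe, MonoidHom.coe_coe, MulAut.conj_apply] at h2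
      rw [hS.eq, mul_inv_cancel_right] at h2
      have hgi : g⁻¹ = g := inv_eq_of_mul_eq_one_right hgg
      rw [← hT, show g * ((g * S * g) * ι a * (g * S * g)⁻¹) * g⁻¹ =
        (g * g) * S * (g * ι a * g⁻¹) * S⁻¹ * (g * g)⁻¹ by group, hgg, one_mul, inv_one, mul_one]
      exact h2
    exact card_le_of_facts ι ψ hm1 rc hstab hrev (hopp_of_two ι ψ hm1 ha hrev k4 c2) hgen

omit [Fintype F] in
theorem presOn_pad_six {n : ℕ} {r : ℕ} (h : PresOn (Fin 6) (Matrix.SpecialLinearGroup (Fin n) F) r) :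
    PresOn (Fin 7) (Matrix.SpecialLinearGroup (Fin n) F) (r + 1) :=
  ((h.pad Unit).reindex ((Equiv.sumCongr (Equiv.refl _) finOneEquiv.symm).trans finSumFinEquiv)).mono
    (by simp)

theorem presOn_SL (n : ℕ) (hn : 4 ≤ n) : PresOn (Fin 7) (Matrix.SpecialLinearGroup (Fin n) F) 25 := by
  obtain ⟨m, rfl⟩ : ∃ m, n = 3 + m := ⟨n - 3, by omega⟩
  rcases Nat.lt_or_ge m 3 with h | h
  · obtain rfl | rfl : m = 1 ∨ m = 2 := by omega
    · exact (presOn_pad_six presOn_SL_four).mono (by norm_num)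
    · exact (presOn_pad_six presOn_SL_five).mono (by norm_num)
  · exact presOn_SL_seven h

end CfsgLib.SLPres
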