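import Cfsg.Agent.Lib.SLPres.Words
import Cfsg.Agent.Lib.PresentSL3.Thirteen
import Cfsg.Agent.Lib.BoundedPres.SLn

/-!
An element generating `SL₂(F)` together with its reflection, and an element generating `SL₃(F)`
together with the rotation.
-/

set_option autoImplicit false

namespace CfsgLib.SLPres

open Polynomial
open CfsgLib.PresentSL3 (sT cT dgT sT_sq coe_sT coe_cT coe_dgT coe_transvectionT)

variable {F : Type*} [Field F]

local notation "SL3" => Matrix.SpecialLinearGroup (Fin 3) F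

/-- The upper root element of the first block. -/
def x01 (v : F) : Matrix.SpecialLinearGroup (Fin 3) F :=
  Matrix.SpecialLinearGroup.transvection (show (0 : Fin 3) ≠ 1 by decide) v

/-- The lower root element of the first block. -/
def x10 (v : F) : Matrix.SpecialLinearGroup (Fin 3) F :=
  Matrix.SpecialLinearGroup.transvection (show (1 : Fin 3) ≠ 0 by decide) v

theorem coe_x01 (v : F) : (x01 v : Matrix (Fin 3) (Fin 3) F) = !![1, v, 0; 0, 1, 0; 0, 0, 1] := by
  rw [x01, coe_transvectionT]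
  ext i j
  fin_cases i <;> fin_cases j <;> simp [Matrix.transvection, Matrix.single]

theorem coe_x10 (v : F) : (x10 v : Matrix (Fin 3) (Fin 3) F) = !![1, 0, 0; v, 1, 0; 0, 0, 1] := by
  rw [x10, coe_transvectionT]
  ext i j
  fin_cases i <;> fin_cases j <;> simp [Matrix.transvection, Matrix.single]

/-- The first block. -/
def Lsub (F : Type*) [Field F] : Subgroup (Matrix.SpecialLinearGroup (Fin 3) F) :=
  Subgroup.closure (Set.range x01 ∪ Set.range x10)

theorem sT_conj01 (v : F) : sT * x01 v * sT = x10 v := by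
  apply Subtype.ext
  simp only [Matrix.SpecialLinearGroup.coe_mul, coe_sT, coe_x01, coe_x10, Matrix.mul_fin_three]
  ext i j
  fin_cases i <;> fin_cases j <;> simp

theorem sT_conj10 (v : F) : sT * x10 v * sT = x01 v := by
  rw [← sT_conj01, show sT * (sT * x01 v * sT) * sT = (sT * sT) * x01 v * (sT * sT) by group, sT_sq,
    one_mul, mul_one]

theorem dgT_eq_word (u : Fˣ) :
    dgT (u, u⁻¹) = x01 (u : F) * x10 (-((u : F)⁻¹)) * x01 (u : F) * (x01 (-1) * x10 1 * x01 (-1)) := by
  have hu := u.ne_zero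
  apply Subtype.ext
  simp only [Matrix.SpecialLinearGroup.coe_mul, coe_dgT, coe_x01, coe_x10, Matrix.mul_fin_three]
  ext i j
  fin_cases i <;> fin_cases j <;> simp [hu]

theorem dgT_mem (u : Fˣ) : dgT (u, u⁻¹) ∈ Lsub F := by
  have h1 : ∀ v, x01 v ∈ Lsub F := fun v => Subgroup.subset_closure (Or.inl ⟨v, rfl⟩)
  have h2 : ∀ v, x10 v ∈ Lsub F := fun v => Subgroup.subset_closure (Or.inr ⟨v, rfl⟩)
  rw [dgT_eq_word]
  exact mul_mem (mul_mem (mul_mem (h1 _) (h2 _)) (h1 _)) (mul_mem (mul_mem (h1 _) (h2 _)) (h1 _))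

theorem span_eq (H : Subgroup SL3) (r : F → SL3) (hr0 : r 0 = 1) (hradd : ∀ a b, r a * r b = r (a + b))
    (x : F) (hx : ∀ y, ∃ P : ℤ[X], aeval x P = y) (h : ∀ l : ℕ, r (x ^ l) ∈ H) (v : F) : r v ∈ H := by
  obtain ⟨P, rfl⟩ := hx v
  refine CfsgLib.PresentSL3.aeval_mem {y | r y ∈ H} (by simp [hr0]) (fun a ha b hb => ?_) (fun l => ?_) P
  · show r (a + b) ∈ H
    rw [← hradd]; exact H.mul_mem ha hb
  · refine ⟨h l, ?_⟩
    show r (-(x ^ l)) ∈ H
    rw [show r (-(x ^ l)) = (r (x ^ l))⁻¹ by rw [eq_inv_iff_mul_eq_one, hradd, neg_add_cancel, hr0]]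
    exact H.inv_mem (h l)

theorem x01_add (a b : F) : x01 a * x01 b = x01 (a + b) :=
  Subtype.ext (Matrix.transvection_mul_transvection_same _ _ (by decide) a b)

theorem x10_add (a b : F) : x10 a * x10 b = x10 (a + b) :=
  Subtype.ext (Matrix.transvection_mul_transvection_same _ _ (by decide) a b)

theorem x01_zero : x01 (0 : F) = 1 := Matrix.SpecialLinearGroup.transvection_coeff_zero _

theorem x10_zero : x10 (0 : F) = 1 := Matrix.SpecialLinearGroup.transvection_coeff_zero _

/-- `a` generates the first block with its reflection. -/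
def IsPairElt (a : SL3) : Prop :=
  a ∈ Lsub F ∧ ∀ H : Subgroup SL3, a ∈ H → sT * a * sT ∈ H → Lsub F ≤ H

theorem isPairElt_of (a : SL3) (ha : a ∈ Lsub F)
    (h : ∀ H : Subgroup SL3, a ∈ H → sT * a * sT ∈ H → (∀ v, x01 v ∈ H) ∨ (∀ v, x10 v ∈ H)) :
    IsPairElt a := by
  refine ⟨ha, fun H h1 h2 => ?_⟩
  set K := Subgroup.closure ({a, sT * a * sT} : Set SL3) with hK
  refine le_trans ?_ (show K ≤ H by
    rw [hK, Subgroup.closure_le]
    rintro z (rfl | rfl) <;> assumption)
  have hinv : ∀ z ∈ K, sT * z * sT ∈ K := by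
    intro z hz
    refine Subgroup.closure_induction (p := fun z _ => sT * z * sT ∈ K) ?_ ?_ ?_ ?_ hz
    · rintro z (rfl | rfl)
      · exact Subgroup.subset_closure (by simp)
      · rw [show sT * (sT * a * sT) * sT = (sT * sT) * a * (sT * sT) by group, sT_sq, one_mul, mul_one]
        exact Subgroup.subset_closure (by simp)
    · rw [mul_one, sT_sq]; exact one_mem K
    · intro p q _ _ hp hq
      have := K.mul_mem hp hq
      rwa [show sT * p * sT * (sT * q * sT) = sT * p * (sT * sT) * q * sT by group, sT_sq, mul_one,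
        show sT * p * q * sT = sT * (p * q) * sT by group] at this
    · intro p _ hp
      have := K.inv_mem hp
      rwa [mul_inv_rev, mul_inv_rev, inv_eq_of_mul_eq_one_right sT_sq, ← mul_assoc] at this
  have h3 := h K (Subgroup.subset_closure (by simp)) (Subgroup.subset_closure (by simp))
  refine (Subgroup.closure_le _).2 (Set.union_subset ?_ ?_) <;> rintro _ ⟨v, rfl⟩
  · rcases h3 with h3 | h3
    · exact h3 v
    · rw [← sT_conj10]; exact hinv _ (h3 v)
  · rcases h3 with h3 | h3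
    · rw [← sT_conj01]; exact hinv _ (h3 v)
    · exact h3 v

variable [Fintype F]

theorem isPairElt_prime {p : ℕ} [Fact p.Prime] [CharP F p] (hF : Fintype.card F = p) :
    IsPairElt (x01 (1 : F)) := by
  refine isPairElt_of _ (Subgroup.subset_closure (Or.inl ⟨1, rfl⟩)) fun H h _ => Or.inl fun v => ?_
  obtain ⟨n, rfl⟩ : ∃ n : ℕ, (n : F) = v := by
    obtain ⟨k, hk⟩ := (ZMod.castHom_bijective F hF).2 v
    exact ⟨k.val, by rw [← hk, ← map_natCast (ZMod.castHom dvd_rfl F), ZMod.natCast_zmod_val]⟩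
  induction n with
  | zero => rw [Nat.cast_zero, x01_zero]; exact one_mem H
  | succ n ih => rw [Nat.cast_succ, ← x01_add]; exact H.mul_mem ih h

theorem isPairElt_generic {w : Fˣ} (hgen : ∀ x : Fˣ, x ∈ Subgroup.zpowers w) (j : ℕ) {y : F}
    (hy : y ≠ 0) (hxy : (w : F) ^ j * (w : F) ^ j - y * y = 1) (hx : (w : F) ^ j * (w : F) ^ j + 1 ≠ 0)
    (hw : (w : F) * w ≠ 1) : ∃ a : SL3, IsPairElt a := by
  have hw0 := w.ne_zero
  set x := (w : F) ^ j with hxdef
  have hx0 : x ≠ 0 := pow_ne_zero _ hw0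
  set c := x / y * ((w : F) - (w : F)⁻¹) with hc
  have hc0 : c ≠ 0 := by
    refine mul_ne_zero (div_ne_zero hx0 hy) (sub_ne_zero.2 fun e => hw ?_)
    nth_rewrite 2 [e]
    exact mul_inv_cancel₀ hw0
  set a : SL3 := x10 (c / w) * dgT (w, w⁻¹) with hadef
  have hcoe : (a : Matrix (Fin 3) (Fin 3) F) = !![(w : F), 0, 0; c, (w : F)⁻¹, 0; 0, 0, 1] := by
    rw [hadef]
    simp only [Matrix.SpecialLinearGroup.coe_mul, coe_x10, coe_dgT, Matrix.mul_fin_three]
    ext i k
    fin_cases i <;> fin_cases k <;> simp [hw0]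
  have hb : ((sT * a * sT : SL3) : Matrix (Fin 3) (Fin 3) F) = !![(w : F)⁻¹, c, 0; 0, (w : F), 0; 0, 0, 1] := by
    simp only [Matrix.SpecialLinearGroup.coe_mul, hcoe, coe_sT, Matrix.mul_fin_three]
    ext i k
    fin_cases i <;> fin_cases k <;> simp
  set b : SL3 := sT * a * sT with hbdef
  have hpow : ∀ n : ℕ, ((b ^ n : SL3) : Matrix (Fin 3) (Fin 3) F) =
      !![((w : F) ^ n)⁻¹, x / y * ((w : F) ^ n - ((w : F) ^ n)⁻¹), 0; 0, (w : F) ^ n, 0; 0, 0, 1] := by
    intro n
    induction n with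
    | zero => ext i k; fin_cases i <;> fin_cases k <;> simp
    | succ n ih =>
      rw [pow_succ, Matrix.SpecialLinearGroup.coe_mul, ih, hb, Matrix.mul_fin_three]
      ext i k
      fin_cases i <;> fin_cases k <;> simp [hc, pow_succ] <;> field_simp <;> ring
  have hM : ((b ^ j : SL3) : Matrix (Fin 3) (Fin 3) F) = !![x⁻¹, y, 0; 0, x, 0; 0, 0, 1] := by
    rw [hpow, ← hxdef]
    congr 4
    field_simp
    linear_combination hxy
  have hN : (((b ^ j)⁻¹ : SL3) : Matrix (Fin 3) (Fin 3) F) = !![x, -y, 0; 0, x⁻¹, 0; 0, 0, 1] := by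
    obtain ⟨N, hN'⟩ : ∃ N : SL3, (N : Matrix (Fin 3) (Fin 3) F) = !![x, -y, 0; 0, x⁻¹, 0; 0, 0, 1] :=
      ⟨⟨_, by simp [Matrix.det_fin_three, hx0]⟩, rfl⟩
    have e : (b ^ j) * N = 1 := by
      apply Subtype.ext
      rw [Matrix.SpecialLinearGroup.coe_mul, hM, hN', Matrix.mul_fin_three]
      ext i k
      fin_cases i <;> fin_cases k <;> simp [hx0, mul_comm]
    rw [inv_eq_of_mul_eq_one_right e, hN']
  set z := c / w * (1 + (x * x)⁻¹) with hz
  have hz0 : z ≠ 0 := by
    refine mul_ne_zero (div_ne_zero hc0 hw0) fun e => hx ?_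
    have h2 : (x * x) * (1 + (x * x)⁻¹) = x * x + 1 := by field_simp
    rw [e, mul_zero] at h2
    exact h2.symm
  refine ⟨a, isPairElt_of a ?_ fun H h1 h2 => Or.inr fun v => ?_⟩
  · exact mul_mem (Subgroup.subset_closure (Or.inr ⟨_, rfl⟩)) (dgT_mem w)
  have hzmem : x10 z ∈ H := by
    have : x10 z = a * (b ^ j)⁻¹ * a * b ^ j := by
      apply Subtype.ext
      simp only [Matrix.SpecialLinearGroup.coe_mul, hN, hM, hcoe, coe_x10, Matrix.mul_fin_three]
      ext i k
      fin_cases i <;> fin_cases k <;> simp [hz, hc] <;> field_simp <;> grobner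
    rw [this]
    exact H.mul_mem (H.mul_mem (H.mul_mem h1 (H.inv_mem (H.pow_mem h2 j))) h1) (H.pow_mem h2 j)
  have hconj : ∀ t, a * x10 t * a⁻¹ = x10 (((w : F)⁻¹ * (w : F)⁻¹) * t) := by
    intro t
    rw [mul_inv_eq_iff_eq_mul]
    apply Subtype.ext
    simp only [Matrix.SpecialLinearGroup.coe_mul, hcoe, coe_x10, Matrix.mul_fin_three]
    ext i k
    fin_cases i <;> fin_cases k <;> simp <;> field_simp <;> ring
  have hl : ∀ l : ℕ, x10 (((w : F)⁻¹ * (w : F)⁻¹) ^ l * z) ∈ H := by
    intro l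
    induction l with
    | zero => rwa [pow_zero, one_mul]
    | succ l ih => rw [pow_succ', mul_assoc, ← hconj]; exact H.mul_mem (H.mul_mem h1 ih) (H.inv_mem h1)
  have hS := CfsgLib.BoundedPres.exists_square_data w⁻¹
    (fun u => by rw [Subgroup.zpowers_inv]; exact hgen u) {t | x10 (t * z) ∈ H}
    (by simp [x10_zero]) (fun p hp q hq => by
      show x10 ((p + q) * z) ∈ H
      rw [add_mul, ← x10_add]; exact H.mul_mem hp hq) fun l => by
    simp only [Units.val_inv_eq_inv_val]
    refine ⟨hl l, ?_⟩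
    show x10 (-(((w : F)⁻¹ * (w : F)⁻¹) ^ l) * z) ∈ H
    rw [show x10 (-(((w : F)⁻¹ * (w : F)⁻¹) ^ l) * z) = (x10 (((w : F)⁻¹ * (w : F)⁻¹) ^ l * z))⁻¹ by
      rw [eq_inv_iff_mul_eq_one, x10_add, neg_mul, neg_add_cancel, x10_zero]]
    exact H.inv_mem (hl l)
  have hv : v / z ∈ {t | x10 (t * z) ∈ H} := hS ▸ Set.mem_univ _
  simpa [div_mul_cancel₀ _ hz0] using hv

theorem exists_conic {p : ℕ} [Fact p.Prime] [CharP F p] (hp : p ≠ 2) (hq : 10 ≤ Fintype.card F) :
    ∃ x y : F, x ≠ 0 ∧ y ≠ 0 ∧ x * x - y * y = 1 ∧ x * x + 1 ≠ 0 := by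
  classical
  have h2 : (2 : F) ≠ 0 := Ring.two_ne_zero (by rw [ringChar.eq F p]; exact hp)
  let P : F[X] := X * (X ^ 4 - 1) * (X ^ 4 + C 6 * X ^ 2 + 1)
  have hP : P.natDegree = 9 := by unfold P; compute_degree!
  have hP0 : P ≠ 0 := fun h => by rw [h, natDegree_zero] at hP; omega
  obtain ⟨t, ht⟩ : ∃ t : F, P.eval t ≠ 0 := by
    by_contra h
    push Not at h
    have hsub : (Finset.univ : Finset F).val ⊆ P.roots := fun t _ => (Polynomial.mem_roots hP0).2 (h t)
    have := Polynomial.card_le_degree_of_subset_roots hsub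
    rw [Finset.card_univ, hP] at this
    omega
  simp only [P, eval_mul, eval_X, eval_sub, eval_pow, eval_one, eval_add, eval_C, mul_ne_zero_iff] at ht
  obtain ⟨⟨h0, h1⟩, h3⟩ := ht
  refine ⟨(t * t + 1) / (2 * t), (t * t - 1) / (2 * t), ?_, ?_, ?_, ?_⟩
  · refine div_ne_zero (fun e => h1 ?_) (mul_ne_zero h2 h0)
    linear_combination (t * t - 1) * e
  · refine div_ne_zero (fun e => h1 ?_) (mul_ne_zero h2 h0)
    linear_combination (t * t + 1) * e
  · field_simp
    ring
  · intro e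
    field_simp at e
    exact h3 (by linear_combination e)

theorem exists_sq_eq {p : ℕ} [Fact p.Prime] [CharP F p] (hp : p ≠ 2) (hq : Fintype.card F = 9) :
    ∃ w : F, w * w = w + 1 ∧ ∀ y, ∃ P : ℤ[X], aeval w P = y := by
  obtain ⟨g, hgen⟩ : ∃ g : Fˣ, ∀ x : Fˣ, x ∈ Subgroup.zpowers g := IsCyclic.exists_generator
  have ho : orderOf g = 8 := by
    rw [orderOf_eq_card_of_forall_mem_zpowers hgen, Nat.card_units, Nat.card_eq_fintype_card, hq]
  have hp3 : p = 3 := by
    have := (dvd_pow_self p (n := 1) one_ne_zero)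
    obtain ⟨e, -, he⟩ := FiniteField.card F p
    have h : p ∣ 3 ^ 2 := by
      rw [show (3 : ℕ) ^ 2 = 9 by norm_num, ← hq, he]; exact dvd_pow_self p e.ne_zero
    exact (Nat.prime_dvd_prime_iff_eq Fact.out Nat.prime_three).1 ((Fact.out : p.Prime).dvd_of_dvd_pow h)
  subst hp3
  have h3 : (3 : F) = 0 := by exact_mod_cast CharP.cast_eq_zero F 3
  have h8 : (g : F) ^ 8 = 1 := by
    have := pow_orderOf_eq_one g
    rw [ho] at this
    simpa using congrArg Units.val this
  have h4 : (g : F) ^ 4 ≠ 1 := by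
    intro e
    have := orderOf_dvd_of_pow_eq_one (show g ^ 4 = 1 from Units.ext (by simpa using e))
    rw [ho] at this
    omega
  have h4' : (g : F) ^ 4 = -1 := by
    have : ((g : F) ^ 4 - 1) * ((g : F) ^ 4 + 1) = 0 := by linear_combination h8
    rcases mul_eq_zero.1 this with h | h
    · exact absurd (sub_eq_zero.1 h) h4
    · exact eq_neg_of_add_eq_zero_left h
  have hfac : ((g : F) * g - g - 1) * ((g : F) * g + g - 1) = 0 := by
    linear_combination h4' - ((g : F) * g) * h3
  obtain ⟨D⟩ := CfsgLib.PresentSL3.exists_D (p := 3) (e := 2) (by rw [hq]; norm_num) (w := g⁻¹)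
    (fun u => by rw [Subgroup.zpowers_inv]; exact hgen u)
  have hsurj : ∀ y, ∃ P : ℤ[X], aeval (g : F) P = y := fun y => by
    obtain ⟨P, hP⟩ := D.surj y
    exact ⟨P, by simpa using hP⟩
  rcases mul_eq_zero.1 hfac with h | h
  · exact ⟨g, by linear_combination h, hsurj⟩
  · refine ⟨-(g : F), by linear_combination h, fun y => ?_⟩
    obtain ⟨P, hP⟩ := hsurj y
    exact ⟨P.comp (-X), by simp [aeval_comp, hP]⟩

omit [Fintype F] in
theorem span_of_two (H : Subgroup SL3) {w : F} (hw : w * w = w + 1) (hx : ∀ y, ∃ P : ℤ[X], aeval w P = y)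
    (h1 : x01 1 ∈ H) (h2 : x01 w ∈ H) (v : F) : x01 v ∈ H := by
  refine span_eq H x01 x01_zero x01_add w hx (fun l => ?_) v
  suffices ∀ l, x01 (w ^ l) ∈ H ∧ x01 (w ^ (l + 1)) ∈ H from (this l).1
  intro l
  induction l with
  | zero => simpa using And.intro h1 h2
  | succ l ih =>
    refine ⟨ih.2, ?_⟩
    rw [show w ^ (l + 1 + 1) = w ^ (l + 1) + w ^ l by linear_combination (w ^ l) * hw, ← x01_add]
    exact H.mul_mem ih.2 ih.1

theorem exists_isPairElt : ∃ a : SL3, IsPairElt a := by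
  classical
  obtain ⟨p, hp⟩ := CharP.exists F
  have : Fact p.Prime := ⟨CharP.char_is_prime F p⟩
  obtain ⟨⟨e, he⟩, -, hF⟩ := FiniteField.card F p
  simp only [PNat.mk_coe] at hF
  have hp2 := (Fact.out : p.Prime).two_le
  obtain ⟨w, hgen⟩ : ∃ w : Fˣ, ∀ x : Fˣ, x ∈ Subgroup.zpowers w := IsCyclic.exists_generator
  by_cases he1 : e = 1
  · exact ⟨_, isPairElt_prime (p := p) (by rw [hF, he1, pow_one])⟩
  have hq : 4 ≤ Fintype.card F := by
    rw [hF]
    calc 4 = 2 ^ 2 := by norm_num
      _ ≤ p ^ 2 := Nat.pow_le_pow_left hp2 2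
      _ ≤ p ^ e := Nat.pow_le_pow_right (by omega) (by omega)
  have ho : orderOf w = Fintype.card F - 1 := by
    rw [orderOf_eq_card_of_forall_mem_zpowers hgen, Nat.card_units, Nat.card_eq_fintype_card]
  have hw : (w : F) * w ≠ 1 := by
    intro h
    have := orderOf_dvd_of_pow_eq_one (show w ^ 2 = 1 from Units.ext (by simpa [pow_two] using h))
    have := Nat.le_of_dvd two_pos this
    omega
  by_cases hp' : p = 2
  · subst hp'
    have h2 : (2 : F) = 0 := by exact_mod_cast CharP.cast_eq_zero F 2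
    refine isPairElt_generic hgen 1 (y := (w : F) + 1) ?_ ?_ ?_ hw
    · intro h
      exact hw (by linear_combination ((w : F) - 1) * h)
    · rw [pow_one]
      linear_combination (-((w : F) + 1)) * h2
    · intro h
      exact hw (by linear_combination h - h2)
  · have hp3 : 3 ≤ p := by omega
    have h9 : 9 ≤ Fintype.card F := by
      rw [hF]
      calc 9 = 3 ^ 2 := by norm_num
        _ ≤ p ^ 2 := Nat.pow_le_pow_left hp3 2
        _ ≤ p ^ e := Nat.pow_le_pow_right (by omega) (by omega)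
    by_cases hq9 : Fintype.card F = 9
    · obtain ⟨u, hu, hsurj⟩ := exists_sq_eq (p := p) hp' hq9
      have : CharP F 3 := by
        have : p = 3 := by
          have h : p ∣ 3 ^ 2 := by
            rw [show (3 : ℕ) ^ 2 = 9 by norm_num, ← hq9, hF]; exact dvd_pow_self p (by omega)
          exact (Nat.prime_dvd_prime_iff_eq Fact.out Nat.prime_three).1 ((Fact.out : p.Prime).dvd_of_dvd_pow h)
        exact this ▸ hp
      obtain ⟨f, hf⟩ := exists_hom 3 hu
      have hu0 : u ≠ 0 := fun h => by simp [h] at hu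
      have hfval : ∀ a b : ZMod 3, f ⟨a, b⟩ = ZMod.castHom dvd_rfl F a + ZMod.castHom dvd_rfl F b * u := by
        intro a b
        have : (⟨a, b⟩ : K9) = algebraMap (ZMod 3) K9 a + algebraMap (ZMod 3) K9 b * ⟨0, 1⟩ := by
          ext <;> simp
        rw [this, map_add, map_mul, hf]
        congr 1
        · exact RingHom.congr_fun (Subsingleton.elim (f.comp (algebraMap (ZMod 3) K9)) _) a
        · congr 1
          exact RingHom.congr_fun (Subsingleton.elim (f.comp (algebraMap (ZMod 3) K9)) _) b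
      have h3 : (3 : F) = 0 := by exact_mod_cast CharP.cast_eq_zero F 3
      have h21 : f ⟨2, 1⟩ = u⁻¹ := by
        rw [hfval, map_ofNat, map_one, one_mul]
        refine eq_inv_of_mul_eq_one_left ?_
        linear_combination hu + u * h3
      set a : SL3 := x01 (u * u) * dgT (Units.mk0 u hu0, (Units.mk0 u hu0)⁻¹) with hadef
      have hA : (a : Matrix (Fin 3) (Fin 3) F) = A9.map f := by
        rw [hadef]
        simp only [Matrix.SpecialLinearGroup.coe_mul, coe_x01, coe_dgT, Matrix.mul_fin_three]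
        ext i k
        fin_cases i <;> fin_cases k <;> simp [A9, hf, h21, hu0]
      refine ⟨a, isPairElt_of a (mul_mem (Subgroup.subset_closure (Or.inl ⟨_, rfl⟩)) (dgT_mem _))
        fun H h1 h2 => Or.inl (span_of_two H hu hsurj ?_ ?_)⟩
      all_goals
        have hB : ((sT * a * sT : SL3) : Matrix (Fin 3) (Fin 3) F) = B9.map f := by
          have hA' : (a : Matrix (Fin 3) (Fin 3) F) = !![u, u, 0; 0, u⁻¹, 0; 0, 0, 1] := by
            rw [hA]
            ext i k
            fin_cases i <;> fin_cases k <;> simp [A9, hf, h21]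
          simp only [Matrix.SpecialLinearGroup.coe_mul, hA', coe_sT, Matrix.mul_fin_three]
          ext i k
          fin_cases i <;> fin_cases k <;> simp [B9, hf, h21]
      · rw [← transport f hA hB (t := x01 1) (by
          rw [coe_x01]; ext i k; fin_cases i <;> fin_cases k <;> simp) _ word_nine_one]
        exact word_mem h1 h2 _
      · rw [← transport f hA hB (t := x01 u) (by
          rw [coe_x01]; ext i k; fin_cases i <;> fin_cases k <;> simp [hf]) _ word_nine_gen]
        exact word_mem h1 h2 _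
    · obtain ⟨x, y, hx0, hy, hxy, hx⟩ := exists_conic (F := F) (p := p) hp' (by omega)
      obtain ⟨j, hj⟩ := CfsgLib.PresentSL3.exists_pow_eq hgen (Units.mk0 x hx0)
      have hj' : (w : F) ^ j = x := by simpa using congrArg Units.val hj
      exact isPairElt_generic hgen j hy (by rw [hj', hxy]) (by rwa [hj']) hw

end CfsgLib.SLPres
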