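import Cfsg.Agent.Lib.SLPres.Gen
import Cfsg.Agent.Lib.BoundedPres.SLnCore

/-!
One element generates `SL₃(F)` together with the rotation.
-/

set_option autoImplicit false

namespace CfsgLib.SLPres

open Polynomial
open CfsgLib.PresentSL3 (sT cT dgT coe_cT coe_dgT cT_dgT)
open CfsgLib.BoundedPres (cT_transvection transvection_step)

theorem one_add_im : (⟨1, 1⟩ : K4) = 1 + ⟨0, 1⟩ := by decide +kernel

variable {F : Type*} [Field F]

local notation "SL3" => Matrix.SpecialLinearGroup (Fin 3) F

theorem top_of_x01 {H : Subgroup SL3} (hc : cT ∈ H) (h : ∀ v, x01 v ∈ H) : H = ⊤ := by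
  have hshift : ∀ {i j : Fin 3} (hij : i ≠ j),
      (∀ v, Matrix.SpecialLinearGroup.transvection hij v ∈ H) → ∀ v, Matrix.SpecialLinearGroup.transvection
        (show i + 1 ≠ j + 1 from fun e => hij (add_right_cancel e)) (v : F) ∈ H := by
    intro i j hij h v
    rw [← cT_transvection hij]
    exact H.mul_mem (H.mul_mem hc (h v)) (H.inv_mem hc)
  have hcomm : ∀ {i j k : Fin 3} (hij : i ≠ j) (hjk : j ≠ k) (hik : i ≠ k),
      (∀ v, Matrix.SpecialLinearGroup.transvection hij v ∈ H) →
      (∀ v, Matrix.SpecialLinearGroup.transvection hjk v ∈ H) →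
      ∀ v, Matrix.SpecialLinearGroup.transvection hik (v : F) ∈ H := by
    intro i j k hij hjk hik ha hb v
    have e := transvection_step hij hjk hik v 1
    rw [mul_one] at e
    have hmem := H.mul_mem (H.mul_mem (H.mul_mem (ha v) (hb 1)) (H.inv_mem (ha v))) (H.inv_mem (hb 1))
    rwa [e, mul_inv_cancel_right, mul_inv_cancel_right] at hmem
  have h12 := hshift (show (0 : Fin 3) ≠ 1 by decide) h
  have h20 := hshift _ h12
  have h02 := hcomm (show (0 : Fin 3) ≠ 1 by decide) (show (1 : Fin 3) ≠ 2 by decide) (by decide) h h12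
  have h10 := hcomm (show (1 : Fin 3) ≠ 2 by decide) (show (2 : Fin 3) ≠ 0 by decide) (by decide) h12 h20
  have h21 := hcomm (show (2 : Fin 3) ≠ 0 by decide) (show (0 : Fin 3) ≠ 1 by decide) (by decide) h20 h
  refine CfsgLib.Linear.SL_eq_top_of_transvection_mem _ fun i j hij v => ?_
  fin_cases i <;> fin_cases j <;> first | exact absurd rfl hij | skip
  exacts [h v, h02 v, h10 v, h12 v, h20 v, h21 v]

theorem exists_rot_gen [Fintype F] :
    ∃ y : SL3, ∀ H : Subgroup SL3, y ∈ H → cT ∈ H → H = ⊤ := by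
  classical
  obtain ⟨p, hp⟩ := CharP.exists F
  have : Fact p.Prime := ⟨CharP.char_is_prime F p⟩
  obtain ⟨⟨e, he⟩, -, hF⟩ := FiniteField.card F p
  simp only [PNat.mk_coe] at hF
  obtain ⟨w, hgen⟩ : ∃ w : Fˣ, ∀ x : Fˣ, x ∈ Subgroup.zpowers w := IsCyclic.exists_generator
  have ho : orderOf w = Fintype.card F - 1 := by
    rw [orderOf_eq_card_of_forall_mem_zpowers hgen, Nat.card_units, Nat.card_eq_fintype_card]
  have hw0 := w.ne_zero
  by_cases hq : Fintype.card F = 4
  · have hp2 : p = 2 := by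
      have h : p ∣ 2 ^ 2 := by
        rw [show (2 : ℕ) ^ 2 = 4 by norm_num, ← hq, hF]; exact dvd_pow_self p (by omega)
      exact (Nat.prime_dvd_prime_iff_eq Fact.out Nat.prime_two).1 ((Fact.out : p.Prime).dvd_of_dvd_pow h)
    subst hp2
    have h2 : (2 : F) = 0 := by exact_mod_cast CharP.cast_eq_zero F 2
    have hw3 : (w : F) ^ 3 = 1 := by
      have := pow_orderOf_eq_one w
      rw [ho, hq] at this
      simpa using congrArg Units.val this
    have hw1 : (w : F) ≠ 1 := by
      intro h
      have h1 : w = 1 := Units.ext h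
      rw [h1, orderOf_one, hq] at ho
      omega
    have hw2 : (w : F) * w = w + 1 := by
      have : ((w : F) - 1) * ((w : F) * w + w + 1) = 0 := by linear_combination hw3
      rcases mul_eq_zero.1 this with h | h
      · exact absurd (sub_eq_zero.1 h) hw1
      · linear_combination h - ((w : F) + 1) * h2
    obtain ⟨f, hf⟩ := exists_hom 2 hw2
    have h11 : f ⟨1, 1⟩ = (w : F)⁻¹ := by
      have : (⟨1, 1⟩ : K4) = 1 + ⟨0, 1⟩ := one_add_im
      rw [this, map_add, map_one, hf]
      refine eq_inv_of_mul_eq_one_left ?_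
      linear_combination hw2 + (w : F) * h2
    obtain ⟨D⟩ := CfsgLib.PresentSL3.exists_D hF (w := w⁻¹)
      (fun u => by rw [Subgroup.zpowers_inv]; exact hgen u)
    have hsurj : ∀ v, ∃ P : ℤ[X], aeval (w : F) P = v := fun v => by
      obtain ⟨P, hP⟩ := D.surj v
      exact ⟨P, by simpa using hP⟩
    refine ⟨x01 1 * dgT (w, w⁻¹), fun H h1 h2' => top_of_x01 h2' (span_of_two H hw2 hsurj ?_ ?_)⟩
    all_goals
      have hA : ((x01 1 * dgT (w, w⁻¹) : SL3) : Matrix (Fin 3) (Fin 3) F) = Y4.map f := by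
        simp only [Matrix.SpecialLinearGroup.coe_mul, coe_x01, coe_dgT, Matrix.mul_fin_three]
        ext i k
        fin_cases i <;> fin_cases k <;> simp [Y4, hf, h11]
      have hB : ((cT : SL3) : Matrix (Fin 3) (Fin 3) F) = C4.map f := by
        rw [coe_cT]
        ext i k
        fin_cases i <;> fin_cases k <;> simp [C4]
    · rw [← transport f hA hB (t := x01 1) (by
        rw [coe_x01]; ext i k; fin_cases i <;> fin_cases k <;> simp) _ word_four_one]
      exact word_mem h1 h2' _
    · rw [← transport f hA hB (t := x01 (w : F)) (by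
        rw [coe_x01]; ext i k; fin_cases i <;> fin_cases k <;> simp [hf]) _ word_four_gen]
      exact word_mem h1 h2' _
  · have hspan := CfsgLib.PresentSL3.cubeSpan_of_card hF hgen hq
    set d : SL3 := dgT (w, w) with hd
    have hdconj : ∀ v, d * x01 v * d⁻¹ = x01 v := fun v => by
      have := CfsgLib.PresentSL3.dgT_eT (w, w) v
      rwa [div_self hw0, one_mul] at this
    refine ⟨x01 1 * d, fun H h1 h2 => top_of_x01 h2 fun v => ?_⟩
    have hcomm : Commute (x01 1) d := by
      have := hdconj 1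
      rw [mul_inv_eq_iff_eq_mul] at this
      exact this.symm
    have hpow : ∀ n : ℕ, (x01 (1 : F)) ^ n = x01 (n : F) := by
      intro n
      induction n with
      | zero => rw [pow_zero, Nat.cast_zero, x01_zero]
      | succ n ih => rw [pow_succ, ih, x01_add, Nat.cast_succ]
    have hpos := Fintype.card_pos (α := F)
    have hN := H.pow_mem h1 (Fintype.card F - 1)
    have hdN : d ^ (Fintype.card F - 1) = 1 := by
      rw [hd, ← map_pow, Prod.pow_mk, ← ho, pow_orderOf_eq_one, Prod.mk_one_one, map_one]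
    rw [hcomm.mul_pow, hdN, mul_one, hpow, Nat.cast_sub (by omega), FiniteField.cast_card_eq_zero,
      Nat.cast_one, zero_sub] at hN
    have hu : x01 (1 : F) ∈ H := by
      have := H.inv_mem hN
      rwa [show (x01 (-1 : F))⁻¹ = x01 1 by
        rw [inv_eq_iff_mul_eq_one, x01_add, neg_add_cancel, x01_zero]] at this
    have hdm : d ∈ H := by
      have := H.mul_mem (H.inv_mem hu) h1
      rwa [inv_mul_cancel_left] at this
    have he : dgT ((w * w)⁻¹, w) ∈ H := by
      have := H.mul_mem (H.mul_mem h2 hdm) (H.inv_mem h2)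
      rwa [hd, cT_dgT] at this
    have hl : ∀ l : ℕ, x01 (((w : F)⁻¹) ^ (3 * l)) ∈ H := by
      intro l
      induction l with
      | zero => simpa using hu
      | succ l ih =>
        have := H.mul_mem (H.mul_mem he ih) (H.inv_mem he)
        rw [show dgT ((w * w)⁻¹, w) * x01 (((w : F)⁻¹) ^ (3 * l)) * (dgT ((w * w)⁻¹, w))⁻¹ =
            x01 ((((w * w)⁻¹ : Fˣ) : F) / (w : F) * ((w : F)⁻¹) ^ (3 * l)) from
          CfsgLib.PresentSL3.dgT_eT ((w * w)⁻¹, w) _] at this
        have e : (((w * w)⁻¹ : Fˣ) : F) / (w : F) * ((w : F)⁻¹) ^ (3 * l) = ((w : F)⁻¹) ^ (3 * (l + 1)) := by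
          simp only [Units.val_inv_eq_inv_val, Units.val_mul]
          rw [show 3 * (l + 1) = 3 * l + 3 by ring, pow_add]
          field_simp
        rwa [e] at this
    have := hspan {t | x01 t ∈ H} (by simp [x01_zero]) (fun a ha b hb => by
      show x01 (a + b) ∈ H
      rw [← x01_add]; exact H.mul_mem ha hb) fun b => ?_
    · exact (this.symm ▸ Set.mem_univ v : v ∈ {t | x01 t ∈ H})
    obtain ⟨n, hn⟩ := CfsgLib.PresentSL3.exists_pow_eq hgen b⁻¹
    have hn' : ((w : F)⁻¹) ^ n = b := by
      have := congrArg Units.val (congrArg (·⁻¹) hn)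
      simpa using this
    show x01 ((b : F) ^ 3) ∈ H
    rw [← hn', ← pow_mul, mul_comm]
    exact hl n

end CfsgLib.SLPres
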