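import Cfsg.Agent.Lib.SLPres.Sigma
import Cfsg.Agent.Lib.SLPres.Gen3
import Cfsg.Agent.Lib.BoundedPres.SLnPres

/-!
Gluing `SL₃(F)` to an alternating group with four relations.
-/

set_option autoImplicit false

namespace CfsgLib.SLPres

open Equiv
open CfsgLib.BoundedPres (first3 first3_inj first3_ne_fourth fourth dswap coe_dswap dswap_apply dswap_mul_self
  cycA cycA_apply revA oppA oppA' uBlock blockSL permSL blockSL_root permSL_conj transvection_commute
  card_le_of_block exists_stab_gens exists_even_map)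
open CfsgLib.PresentSL3 (sT cT dgT sT_sq sT_cT cT_cube coe_sT coe_transvectionT)

variable {F : Type*} [Field F] {m : ℕ}

/-- The three-cycle moving the third index to the fourth. -/
def h234 (m : ℕ) (hm : 2 ≤ m) : alternatingGroup (Fin (3 + m)) :=
  dswap (first3 m 2) (fourth m (by omega)) (fourth m (by omega)) (fifth m hm) (first3_ne_fourth (by omega) 2)
    (fifth_ne_fourth hm)

theorem sT_inv : (sT : Matrix.SpecialLinearGroup (Fin 3) F)⁻¹ = sT := inv_eq_of_mul_eq_one_right sT_sq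

theorem Lsub_sT {z : Matrix.SpecialLinearGroup (Fin 3) F} (hz : z ∈ Lsub F) : sT * z * sT ∈ Lsub F := by
  have : Lsub F ≤ (Lsub F).comap (MulAut.conj (sT : Matrix.SpecialLinearGroup (Fin 3) F)).toMonoidHom := by
    refine (Subgroup.closure_le _).2 (Set.union_subset ?_ ?_) <;> rintro _ ⟨v, rfl⟩
    · show sT * x01 v * sT⁻¹ ∈ Lsub F
      rw [sT_inv, sT_conj01]
      exact Subgroup.subset_closure (Or.inr ⟨v, rfl⟩)
    · show sT * x10 v * sT⁻¹ ∈ Lsub F
      rw [sT_inv, sT_conj10]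
      exact Subgroup.subset_closure (Or.inl ⟨v, rfl⟩)
  have h := this hz
  rw [Subgroup.mem_comap] at h
  simpa [sT_inv] using h

theorem perm_ext_five {N : ℕ} {σ τ : Perm (Fin N)}
    (h : ∀ x : Fin N, (x : ℕ) = 0 ∨ (x : ℕ) = 1 ∨ (x : ℕ) = 2 ∨ (x : ℕ) = 3 ∨ (x : ℕ) = 4 ∨ 5 ≤ (x : ℕ) →
      σ x = τ x) : σ = τ :=
  Equiv.ext fun x => h x (by omega)

theorem uBlock_mem : (uBlock : Matrix.SpecialLinearGroup (Fin 3) F) ∈ Lsub F :=
  Subgroup.subset_closure (Or.inl ⟨1, rfl⟩)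

section Core

variable {G : Type*} [Group G] (ι : Matrix.SpecialLinearGroup (Fin 3) F →* G)
  (ψ : alternatingGroup (Fin (3 + m)) →* G)

/-- A relation of the form `z` commutes with an element of the block holds on what those elements generate. -/
theorem commute_of_mem {z : G} {g : Matrix.SpecialLinearGroup (Fin 3) F}
    {S : Set (Matrix.SpecialLinearGroup (Fin 3) F)} (h : ∀ x ∈ S, Commute z (ι x))
    (hg : g ∈ Subgroup.closure S) : Commute z (ι g) := by
  have : Subgroup.closure S ≤ (Subgroup.centralizer ({z} : Set G)).comap ι := by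
    rw [Subgroup.closure_le]
    intro x hx
    show ι x ∈ Subgroup.centralizer ({z} : Set G)
    rw [Subgroup.mem_centralizer_singleton_iff]
    exact (h x hx).symm.eq
  exact (Subgroup.mem_centralizer_singleton_iff.1 (this hg) : ι g * z = z * ι g).symm

theorem commute_Lsub {z : G} {a : Matrix.SpecialLinearGroup (Fin 3) F} (ha : IsPairElt a)
    (h1 : Commute z (ι a)) (h2 : Commute z (ι (sT * a * sT))) :
    ∀ g ∈ Lsub F, Commute z (ι g) := fun g hg =>
  commute_of_mem ι (S := {a, sT * a * sT}) (fun x hx => by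
      rcases hx with rfl | rfl
      exacts [h1, h2])
    (ha.2 _ (Subgroup.subset_closure (by simp)) (Subgroup.subset_closure (by simp)) hg)

/-- An involution acting on the block like the reflection. -/
theorem rev_Lsub {τ : alternatingGroup (Fin (3 + m))} (hτ : τ * τ = 1) {a : Matrix.SpecialLinearGroup (Fin 3) F}
    (ha : IsPairElt a) (h : Commute ((ι sT)⁻¹ * ψ τ) (ι a)) :
    ∀ g ∈ Lsub F, Commute ((ι sT)⁻¹ * ψ τ) (ι g) := by
  refine commute_Lsub ι ha h ?_
  have hs : (ι sT)⁻¹ = ι sT := by rw [← map_inv, sT_inv]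
  have hss : ι sT * ι sT = 1 := by rw [← map_mul, sT_sq, map_one]
  have htt : ψ τ * ψ τ = 1 := by rw [← map_mul, hτ, map_one]
  have e := h.eq
  rw [hs] at e ⊢
  have e' : ψ τ * ι a = ι sT * ι a * ι sT * ψ τ := by
    calc ψ τ * ι a = (ι sT * ι sT) * ψ τ * ι a := by rw [hss, one_mul]
      _ = ι sT * (ι sT * ψ τ * ι a) := by group
      _ = _ := by rw [e]; group
  show ι sT * ψ τ * ι (sT * a * sT) = ι (sT * a * sT) * (ι sT * ψ τ)
  rw [map_mul, map_mul]
  calc ι sT * ψ τ * (ι sT * ι a * ι sT)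
      = ι sT * ψ τ * (ι sT * ι a * ι sT * ψ τ) * ψ τ := by
        rw [mul_assoc _ _ (ψ τ), mul_assoc (ι sT * ι a * ι sT), htt, mul_one]
    _ = ι sT * (ψ τ * ψ τ) * ι a * ψ τ := by rw [← e']; group
    _ = ι sT * ι a * (ι sT * ι sT) * ψ τ := by rw [htt, hss, mul_one, mul_one]
    _ = _ := by group

theorem rev_conj {τ : alternatingGroup (Fin (3 + m))} {g : Matrix.SpecialLinearGroup (Fin 3) F}
    (h : Commute ((ι sT)⁻¹ * ψ τ) (ι g)) : ψ τ * ι g * (ψ τ)⁻¹ = ι (sT * g * sT) := by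
  rw [map_mul, map_mul]
  calc ψ τ * ι g * (ψ τ)⁻¹ = ι sT * (((ι sT)⁻¹ * ψ τ) * ι g) * (ψ τ)⁻¹ := by group
    _ = ι sT * ι g * (ι sT)⁻¹ := by rw [h.eq]; group
    _ = _ := by rw [← map_inv, sT_inv]

theorem oppA_mul_self (hm : 1 ≤ m) : oppA m hm * oppA m hm = 1 :=
  dswap_mul_self _ _ ((first3_inj m).ne (by decide)) (first3_ne_fourth hm 0) ((first3_inj m).ne (by decide))
    (first3_ne_fourth hm 2)

theorem revA_mul_self (hm : 1 ≤ m) : revA m hm * revA m hm = 1 :=
  dswap_mul_self _ _ ((first3_inj m).ne (by decide)) (first3_ne_fourth hm 0) ((first3_inj m).ne (by decide))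
    (first3_ne_fourth hm 1)

theorem revA_oppA (hm : 1 ≤ m) : revA m hm * oppA m hm = oppA m hm * revA m hm ∧
    oppA' m hm = oppA m hm * revA m hm := by
  constructor <;>
  · apply Subtype.ext
    simp only [revA, oppA, oppA', Subgroup.coe_mul, coe_dswap]
    refine perm_ext_five fun x hx => ?_
    apply Fin.ext
    rcases hx with h | h | h | h | h | h
    iterate 5 simp [Equiv.swap_apply_def, Fin.ext_iff, h]
    simp [Equiv.swap_apply_def, Fin.ext_iff, show (x : ℕ) ≠ 0 by omega, show (x : ℕ) ≠ 1 by omega,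
      show (x : ℕ) ≠ 2 by omega, show (x : ℕ) ≠ 3 by omega]

/-- The bound from the facts about the first block. -/
theorem card_le_of_facts [Fintype F] (hm : 1 ≤ m) (rc : ι cT = ψ (cycA m))
    (hstab : ∀ g : alternatingGroup (Fin (3 + m)), (g : Perm (Fin (3 + m))) (first3 m 0) = first3 m 0 →
      (g : Perm (Fin (3 + m))) (first3 m 1) = first3 m 1 → ∀ z ∈ Lsub F, Commute (ψ g) (ι z))
    (hrev : ∀ z ∈ Lsub F, Commute ((ι sT)⁻¹ * ψ (revA m hm)) (ι z))
    (hopp : ∀ z ∈ Lsub F, ∀ z' ∈ Lsub F,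
      Commute (ι z) (ψ (oppA m hm) * ι z' * (ψ (oppA m hm))⁻¹))
    (hgen : ι.range ⊔ ψ.range = ⊤) :
    Finite G ∧ Nat.card G ≤ Nat.card (Matrix.SpecialLinearGroup (Fin (3 + m)) F) := by
  obtain ⟨w, hw⟩ : ∃ w : Fˣ, ∀ x : Fˣ, x ∈ Subgroup.zpowers w := IsCyclic.exists_generator
  obtain ⟨s, hsfix, hsgen⟩ := exists_stab_gens (m := m) hm
  refine card_le_of_block ι ψ hm hw s hsgen rc (hrev _ uBlock_mem) (hrev _ (dgT_mem w))
    (fun i => ⟨hstab _ (hsfix i).1 (hsfix i).2 _ uBlock_mem, hstab _ (hsfix i).1 (hsfix i).2 _ (dgT_mem w)⟩)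
    (fun g hg => ?_) hgen
  have key : ∀ z ∈ Lsub F, ∀ z' ∈ Lsub F, Commute (ι z) (ψ g * ι z' * (ψ g)⁻¹) := by
    intro z hz z' hz'
    simp only [List.mem_cons, List.not_mem_nil, or_false] at hg
    rcases hg with rfl | rfl
    · exact hopp z hz z' hz'
    · rw [(revA_oppA hm).2, map_mul, show ψ (oppA m hm) * ψ (revA m hm) * ι z' *
          (ψ (oppA m hm) * ψ (revA m hm))⁻¹ =
          ψ (oppA m hm) * (ψ (revA m hm) * ι z' * (ψ (revA m hm))⁻¹) * (ψ (oppA m hm))⁻¹ by group,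
        rev_conj ι ψ (hrev z' hz')]
      exact hopp z hz _ (Lsub_sT hz')
  exact ⟨key _ uBlock_mem _ uBlock_mem, key _ (dgT_mem w) _ uBlock_mem, key _ (dgT_mem w) _ (dgT_mem w)⟩

/-- Commutation of the block with its opposite from two relations. -/
theorem hopp_of_two (hm : 1 ≤ m) {a : Matrix.SpecialLinearGroup (Fin 3) F} (ha : IsPairElt a)
    (hrev : ∀ z ∈ Lsub F, Commute ((ι sT)⁻¹ * ψ (revA m hm)) (ι z))
    (c1 : Commute (ι a) (ψ (oppA m hm) * ι a * (ψ (oppA m hm))⁻¹))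
    (c2 : Commute (ι a) (ψ (oppA m hm) * ι (sT * a * sT) * (ψ (oppA m hm))⁻¹)) :
    ∀ z ∈ Lsub F, ∀ z' ∈ Lsub F, Commute (ι z) (ψ (oppA m hm) * ι z' * (ψ (oppA m hm))⁻¹) := by
  have hb := Lsub_sT ha.1
  have conjR : ∀ {t t' : Matrix.SpecialLinearGroup (Fin 3) F}, t ∈ Lsub F → t' ∈ Lsub F →
      Commute (ι t) (ψ (oppA m hm) * ι t' * (ψ (oppA m hm))⁻¹) →
      Commute (ι (sT * t * sT)) (ψ (oppA m hm) * ι (sT * t' * sT) * (ψ (oppA m hm))⁻¹) := by
    intro t t' ht ht' h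
    have h2 := h.map (MulAut.conj (ψ (revA m hm))).toMonoidHom
    simp only [MulEquiv.toMonoidHom_eq_coe, MonoidHom.coe_coe, MulAut.conj_apply] at h2
    rw [rev_conj ι ψ (hrev t ht)] at h2
    have e : ψ (revA m hm) * ψ (oppA m hm) = ψ (oppA m hm) * ψ (revA m hm) := by
      rw [← map_mul, ← map_mul, (revA_oppA hm).1]
    rw [show ψ (revA m hm) * (ψ (oppA m hm) * ι t' * (ψ (oppA m hm))⁻¹) * (ψ (revA m hm))⁻¹ =
        (ψ (revA m hm) * ψ (oppA m hm)) * ι t' * (ψ (revA m hm) * ψ (oppA m hm))⁻¹ by group, e,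
      show ψ (oppA m hm) * ψ (revA m hm) * ι t' * (ψ (oppA m hm) * ψ (revA m hm))⁻¹ =
        ψ (oppA m hm) * (ψ (revA m hm) * ι t' * (ψ (revA m hm))⁻¹) * (ψ (oppA m hm))⁻¹ by group,
      rev_conj ι ψ (hrev t' ht')] at h2
    exact h2
  have c3 := conjR ha.1 ha.1 c1
  have c4 := conjR ha.1 hb c2
  have hback : sT * (sT * a * sT) * sT = a := by
    rw [show sT * (sT * a * sT) * sT = (sT * sT) * a * (sT * sT) by group, sT_sq, one_mul, mul_one]
  rw [hback] at c4
  intro z hz z' hz'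
  have h1 : ∀ t ∈ ({a, sT * a * sT} : Set _), Commute (ψ (oppA m hm) * ι t * (ψ (oppA m hm))⁻¹) (ι z) := by
    intro t ht
    rcases ht with rfl | rfl
    exacts [commute_Lsub ι ha c1.symm c4.symm z hz, commute_Lsub ι ha c2.symm c3.symm z hz]
  have h2 : ∀ t ∈ ({a, sT * a * sT} : Set _),
      Commute ((ψ (oppA m hm))⁻¹ * ι z * ψ (oppA m hm)) (ι t) := by
    intro t ht
    have := (h1 t ht).symm.map (MulAut.conj (ψ (oppA m hm))⁻¹).toMonoidHom
    simpa [mul_assoc] using this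
  have h3 := commute_of_mem ι h2 (ha.2 (Subgroup.closure {a, sT * a * sT})
    (Subgroup.subset_closure (by simp)) (Subgroup.subset_closure (by simp)) hz')
  have := h3.map (MulAut.conj (ψ (oppA m hm))).toMonoidHom
  simpa [mul_assoc] using this

theorem revB_mul_self (hm : 2 ≤ m) : revB m hm * revB m hm = 1 := by
  refine dswap_mul_self _ _ (first3_ne_fourth (by omega) 0) ?_ (first3_ne_fourth (by omega) 1) ?_ <;>
    simp [Fin.ext_iff]

theorem revB_h234 (hm : 2 ≤ m) : revB m hm * h234 m hm * (revB m hm)⁻¹ = (h234 m hm)⁻¹ := by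
  apply Subtype.ext
  simp only [revB, h234, Subgroup.coe_mul, InvMemClass.coe_inv, coe_dswap, mul_inv_rev, Equiv.swap_inv]
  refine perm_ext_five fun x hx => ?_
  apply Fin.ext
  rcases hx with h | h | h | h | h | h
  iterate 5 simp [Equiv.swap_apply_def, Fin.ext_iff, h]
  simp [Equiv.swap_apply_def, Fin.ext_iff, show (x : ℕ) ≠ 0 by omega, show (x : ℕ) ≠ 1 by omega,
    show (x : ℕ) ≠ 2 by omega, show (x : ℕ) ≠ 3 by omega, show (x : ℕ) ≠ 4 by omega]

/-- A permutation fixing the first pair is a product of the three-cycle and one fixing three indices. -/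
theorem mem_of_h234 (hm : 2 ≤ m) (M : Subgroup (alternatingGroup (Fin (3 + m)))) (hh : h234 m hm ∈ M)
    (hK : ∀ g : alternatingGroup (Fin (3 + m)),
      (∀ a, (g : Perm (Fin (3 + m))) (first3 m a) = first3 m a) → g ∈ M)
    (g : alternatingGroup (Fin (3 + m))) (g0 : (g : Perm (Fin (3 + m))) (first3 m 0) = first3 m 0)
    (g1 : (g : Perm (Fin (3 + m))) (first3 m 1) = first3 m 1) : g ∈ M := by
  set x := (g : Perm (Fin (3 + m))) (first3 m 2) with hx
  have hx0 : x ≠ first3 m 0 := fun e => by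
    rw [hx, ← g0, EmbeddingLike.apply_eq_iff_eq] at e; simp [Fin.ext_iff] at e
  have hx1 : x ≠ first3 m 1 := fun e => by
    rw [hx, ← g1, EmbeddingLike.apply_eq_iff_eq] at e; simp [Fin.ext_iff] at e
  have hE := first3_inj m
  suffices h : ∃ k ∈ M, (k : Perm (Fin (3 + m))) (first3 m 0) = first3 m 0 ∧
      (k : Perm (Fin (3 + m))) (first3 m 1) = first3 m 1 ∧ (k : Perm (Fin (3 + m))) (first3 m 2) = x by
    obtain ⟨k, hk, k0, k1, k2⟩ := h
    have := M.mul_mem hk (hK (k⁻¹ * g) fun a => ?_)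
    · rwa [mul_inv_cancel_left] at this
    rw [Subgroup.coe_mul, InvMemClass.coe_inv, Perm.mul_apply, Perm.inv_eq_iff_eq]
    fin_cases a
    exacts [g0.trans k0.symm, g1.trans k1.symm, k2.symm]
  have hh0 : (h234 m hm : Perm (Fin (3 + m))) (first3 m 0) = first3 m 0 ∧
      (h234 m hm : Perm (Fin (3 + m))) (first3 m 1) = first3 m 1 ∧
      (h234 m hm : Perm (Fin (3 + m))) (first3 m 2) = fourth m (by omega) ∧
      (h234 m hm : Perm (Fin (3 + m))) (fourth m (by omega)) = fifth m hm := by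
    simp [h234, coe_dswap, Equiv.swap_apply_def, Fin.ext_iff]
  by_cases hx2 : x = first3 m 2
  · exact ⟨1, one_mem M, rfl, rfl, hx2.symm⟩
  by_cases hx3 : x = fourth m (by omega)
  · exact ⟨_, hh, hh0.1, hh0.2.1, hx3 ▸ hh0.2.2.1⟩
  by_cases hx4 : x = fifth m hm
  · refine ⟨_, M.mul_mem hh hh, ?_, ?_, ?_⟩
    · simp [hh0.1]
    · simp [hh0.2.1]
    · simp [hh0.2.2.1, hh0.2.2.2, hx4]
  have hxn : ∀ a, x ≠ first3 m a := by intro a; fin_cases a; exacts [hx0, hx1, hx2]
  have hne := fifth_ne_fourth hm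
  set κ := dswap (fourth m (by omega)) x x (fifth m hm) (Ne.symm hx3) hx4 with hκ
  have hκfix : ∀ a, (κ : Perm (Fin (3 + m))) (first3 m a) = first3 m a := by
    intro a
    have h3 := first3_ne_fourth (m := m) (show 1 ≤ m by omega) a
    have h4 : first3 m a ≠ fifth m hm := by
      intro e
      have := congrArg Fin.val e
      simp at this
      omega
    rw [hκ, coe_dswap, Perm.mul_apply, Equiv.swap_apply_of_ne_of_ne (hxn a).symm h4,
      Equiv.swap_apply_of_ne_of_ne h3 (hxn a).symm]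
  have hκ3 : (κ : Perm (Fin (3 + m))) (fourth m (by omega)) = x := by
    rw [hκ, coe_dswap, Perm.mul_apply, Equiv.swap_apply_of_ne_of_ne (Ne.symm hx3) hne,
      Equiv.swap_apply_left]
  refine ⟨κ * h234 m hm, M.mul_mem (hK κ hκfix) hh, ?_, ?_, ?_⟩
  · simp [hh0.1, hκfix]
  · simp [hh0.2.1, hκfix]
  · simp [hh0.2.2.1, hκ3]

end Core

end CfsgLib.SLPres
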