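import Cfsg.Agent.Lib.BoundedPres.SLnCore

/-!
An even permutation generating the alternating group together with its conjugate by a transposition.
-/

set_option autoImplicit false

namespace CfsgLib.SLPres

open Equiv
open CfsgLib.BoundedPres (first3 first3_inj dswap coe_dswap fourth)

theorem exists_alt_pair (k : ℕ) : ∃ σ : Perm (Fin (k + 3)), Perm.sign σ = 1 ∧
    ∀ M : Subgroup (Perm (Fin (k + 3))), σ ∈ M → Equiv.swap 0 1 * σ * Equiv.swap 0 1 ∈ M →
      alternatingGroup (Fin (k + 3)) ≤ M := by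
  classical
  set τ : Perm (Fin (k + 3)) := Equiv.swap 0 1 with hτ
  set r := finRotate (k + 3) with hr
  have h01 : (0 : Fin (k + 3)) ≠ 1 := by simp [Fin.ext_iff]
  have hττ : τ * τ = 1 := Equiv.swap_mul_self _ _
  have r0 : r 0 = 1 := by simp [hr, finRotate_apply]
  have r1 : r 1 = 2 := by
    simp [hr, finRotate_apply, Fin.ext_iff, Fin.val_add, Nat.mod_eq_of_lt]
  have hgen : Subgroup.closure ({r, τ} : Set (Perm (Fin (k + 3)))) = ⊤ := by
    have := Perm.closure_cycle_adjacent_swap (σ := r) isCycle_finRotate support_finRotate 0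
    rwa [r0] at this
  have h02 : (0 : Fin (k + 3)) ≠ 2 := by simp [Fin.ext_iff, Nat.mod_eq_of_lt]
  have h12 : (1 : Fin (k + 3)) ≠ 2 := by simp [Fin.ext_iff, Nat.mod_eq_of_lt]
  obtain ⟨σ, hσ, hclo, hthree⟩ : ∃ σ : Perm (Fin (k + 3)), Perm.sign σ = 1 ∧
      Subgroup.closure ({σ, τ} : Set (Perm (Fin (k + 3)))) = ⊤ ∧ (σ * τ * σ⁻¹ * τ).IsThreeCycle := by
    rcases Nat.even_or_odd k with hk | hk
    · refine ⟨r, ?_, hgen, ?_⟩
      · rw [hr, sign_finRotate]
        exact Even.neg_one_pow (by obtain ⟨j, rfl⟩ := hk; exact ⟨j + 1, by omega⟩)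
      · rw [hτ, ← Equiv.swap_apply_apply, r0, r1, Equiv.swap_comm 0 1]
        exact Equiv.Perm.isThreeCycle_swap_mul_swap_same h12 h01.symm h02.symm
    · refine ⟨τ * r, ?_, ?_, ?_⟩
      · rw [map_mul, hτ, Perm.sign_swap h01, hr, sign_finRotate,
          Odd.neg_one_pow (by obtain ⟨j, rfl⟩ := hk; exact ⟨j + 1, by omega⟩)]
        rfl
      · rw [eq_top_iff, ← hgen, Subgroup.closure_le]
        rintro x (rfl | rfl)
        · have := mul_mem (Subgroup.subset_closure (show τ ∈ ({τ * r, τ} : Set _) by simp))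
            (Subgroup.subset_closure (show τ * r ∈ ({τ * r, τ} : Set _) by simp))
          rwa [← mul_assoc, hττ, one_mul] at this
        · exact Subgroup.subset_closure (by simp)
      · rw [hτ, ← Equiv.swap_apply_apply, Perm.mul_apply, Perm.mul_apply, r0, r1, Equiv.swap_apply_right,
          Equiv.swap_apply_of_ne_of_ne h02.symm h12.symm]
        exact Equiv.Perm.isThreeCycle_swap_mul_swap_same h02 h01 h12.symm
  refine ⟨σ, hσ, fun M h1 h2 => ?_⟩
  set N := Subgroup.closure ({σ, τ * σ * τ} : Set (Perm (Fin (k + 3)))) with hN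
  have hNM : N ≤ M := by
    rw [hN, Subgroup.closure_le]
    rintro x (h | h) <;> rw [h] <;> assumption
  have e1 : σ ∈ N := Subgroup.subset_closure (by simp)
  have e2 : τ * σ * τ ∈ N := Subgroup.subset_closure (by simp)
  have hτinv : τ⁻¹ = τ := Equiv.swap_inv 0 1
  have hnorm : σ ∈ Subgroup.normalizer (N : Set (Perm (Fin (k + 3)))) ∧
      τ ∈ Subgroup.normalizer (N : Set (Perm (Fin (k + 3)))) := by
    refine ⟨Subgroup.le_normalizer e1, ?_⟩
    have hmap : ∀ x ∈ N, τ * x * τ⁻¹ ∈ N := by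
      have : N ≤ N.comap (MulAut.conj τ).toMonoidHom := by
        rw [hN, Subgroup.closure_le]
        rintro x (h | h) <;> rw [h]
        · show τ * σ * τ⁻¹ ∈ N
          rw [hτinv]; exact e2
        · show τ * (τ * σ * τ) * τ⁻¹ ∈ N
          rw [hτinv, show τ * (τ * σ * τ) * τ = (τ * τ) * σ * (τ * τ) by group, hττ, one_mul, mul_one]
          exact e1
      exact fun x hx => this hx
    rw [Subgroup.mem_normalizer_iff]
    refine fun x => ⟨hmap x, fun hx => ?_⟩
    have := hmap _ hx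
    rwa [hτinv, show τ * (τ * x * τ) * τ = (τ * τ) * x * (τ * τ) by group, hττ, one_mul, mul_one] at this
  have hnn : N.Normal := by
    rw [← Subgroup.normalizer_eq_top_iff, eq_top_iff, ← hclo, Subgroup.closure_le]
    rintro x (h | h) <;> rw [h]
    exacts [hnorm.1, hnorm.2]
  have hc : σ * τ * σ⁻¹ * τ ∈ N := by
    have := N.mul_mem e1 (N.inv_mem e2)
    rwa [mul_inv_rev, mul_inv_rev, hτinv, ← mul_assoc, ← mul_assoc] at this
  refine le_trans ?_ hNM
  rw [← Equiv.Perm.closure_three_cycles_eq_alternating, Subgroup.closure_le]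
  intro x hx
  obtain ⟨π, hπ⟩ := isConj_iff.1 (Equiv.Perm.isConj_iff_cycleType_eq.2
    (show (σ * τ * σ⁻¹ * τ).cycleType = x.cycleType by rw [hthree, show x.cycleType = {3} from hx]))
  rw [← hπ]
  exact hnn.conj_mem _ hc π

/-- The fifth index. -/
abbrev fifth (m : ℕ) (hm : 2 ≤ m) : Fin (3 + m) := ⟨4, by omega⟩

theorem fifth_ne_fourth {m : ℕ} (hm : 2 ≤ m) : fourth m (by omega) ≠ fifth m hm := by
  simp [Fin.ext_iff]

/-- The involution reversing the first pair and fixing the third index. -/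
def revB (m : ℕ) (hm : 2 ≤ m) : alternatingGroup (Fin (3 + m)) :=
  dswap (first3 m 0) (first3 m 1) (fourth m (by omega)) (fifth m hm) ((first3_inj m).ne (by decide))
    (fifth_ne_fourth hm)

theorem exists_stab3_gen {m : ℕ} (hm : 3 ≤ m) : ∃ σ : alternatingGroup (Fin (3 + m)),
    (∀ a, (σ : Perm (Fin (3 + m))) (first3 m a) = first3 m a) ∧
    ∀ M : Subgroup (alternatingGroup (Fin (3 + m))), σ ∈ M →
      revB m (by omega) * σ * (revB m (by omega))⁻¹ ∈ M →
      ∀ g : alternatingGroup (Fin (3 + m)),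
        (∀ a, (g : Perm (Fin (3 + m))) (first3 m a) = first3 m a) → g ∈ M := by
  classical
  obtain ⟨k, rfl⟩ : ∃ k, m = k + 3 := ⟨m - 3, by omega⟩
  let Sub := {x : Fin (3 + (k + 3)) // 3 ≤ (x : ℕ)}
  let eS : Fin (k + 3) ≃ Sub :=
    { toFun := fun i => ⟨⟨3 + i, by omega⟩, Nat.le_add_right _ _⟩
      invFun := fun x => ⟨(x.1 : ℕ) - 3, by have := x.1.2; omega⟩
      left_inv := fun i => by apply Fin.ext; show 3 + (i : ℕ) - 3 = i; omega
      right_inv := fun x => by
        apply Subtype.ext; apply Fin.ext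
        show 3 + ((x.1 : ℕ) - 3) = x.1
        have := x.2; omega }
  let θ : Perm (Fin (k + 3)) →* Perm (Fin (3 + (k + 3))) := (Perm.ofSubtype).comp eS.permCongrHom.toMonoidHom
  have hθsign : ∀ q, Perm.sign (θ q) = Perm.sign q := fun q => by
    simp [θ, Perm.sign_ofSubtype, Perm.sign_permCongr]
  have hfix : ∀ q a, θ q (first3 (k + 3) a) = first3 (k + 3) a := fun q a =>
    Perm.ofSubtype_apply_of_not_mem _ (by simp)
  obtain ⟨σ, hσ, hgen⟩ := exists_alt_pair k
  refine ⟨⟨θ σ, Perm.mem_alternatingGroup.2 (by rw [hθsign, hσ])⟩, fun a => hfix σ a,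
    fun M h1 h2 g hg => ?_⟩
  have hout : ∀ x : Fin (3 + (k + 3)), ¬ 3 ≤ (x : ℕ) → (g : Perm (Fin (3 + (k + 3)))) x = x := by
    intro x hx
    have : x = first3 (k + 3) ⟨x, by omega⟩ := Fin.ext rfl
    rw [this, hg]
  have hp : ∀ x : Fin (3 + (k + 3)), 3 ≤ ((g : Perm (Fin (3 + (k + 3)))) x : ℕ) ↔ 3 ≤ (x : ℕ) := by
    intro x
    refine ⟨fun h => by_contra fun hx => ?_, fun h => by_contra fun hx => ?_⟩
    · rw [hout x hx] at h; exact hx h
    · have e := hout _ hx
      rw [Equiv.apply_eq_iff_eq] at e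
      rw [e] at hx
      exact hx h
  set q := eS.permCongrHom.symm (Perm.subtypePerm (g : Perm (Fin (3 + (k + 3)))) hp) with hq
  have hθq : θ q = (g : Perm (Fin (3 + (k + 3)))) := by
    show Perm.ofSubtype (eS.permCongrHom (eS.permCongrHom.symm _)) = _
    rw [MulEquiv.apply_symm_apply]
    refine Perm.ofSubtype_subtypePerm _ fun x hx => by_contra fun h => hx (hout x h)
  have hqA : q ∈ alternatingGroup (Fin (k + 3)) := by
    rw [Perm.mem_alternatingGroup, ← hθsign, hθq]
    exact Perm.mem_alternatingGroup.1 g.2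
  have := hgen ((M.map (alternatingGroup (Fin (3 + (k + 3)))).subtype).comap θ) ⟨_, h1, rfl⟩
    ⟨_, h2, ?_⟩ hqA
  · obtain ⟨g', hg', he⟩ := this
    exact (Subtype.ext (he.trans hθq) : g' = g) ▸ hg'
  · have hswap : θ (Equiv.swap 0 1) =
        Equiv.swap (fourth (k + 3) (by omega)) (fifth (k + 3) (by omega)) := by
      show Perm.ofSubtype (eS.permCongr (Equiv.swap 0 1)) = _
      rw [show eS.permCongr (Equiv.swap 0 1) = Equiv.swap (eS 0) (eS 1) by
        rw [Equiv.permCongr_def, Equiv.symm_trans_swap_trans], Perm.ofSubtype_swap_eq]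
      congr 1
    have hd : Commute (Equiv.swap (first3 (k + 3) 0) (first3 (k + 3) 1)) (θ σ) := by
      show _ = _
      rw [Equiv.mul_swap_eq_swap_mul, hfix, hfix]
    show ((revB (k + 3) _ : Perm (Fin (3 + (k + 3)))) * θ σ *
      (revB (k + 3) _ : Perm (Fin (3 + (k + 3))))⁻¹) = θ (Equiv.swap 0 1 * σ * Equiv.swap 0 1)
    rw [map_mul, map_mul, hswap, revB, coe_dswap, mul_inv_rev, Equiv.swap_inv, Equiv.swap_inv]
    set A := Equiv.swap (first3 (k + 3) 0) (first3 (k + 3) 1)
    set B := Equiv.swap (fourth (k + 3) (show 1 ≤ k + 3 by omega)) (fifth (k + 3) (show 2 ≤ k + 3 by omega))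
    have hAB : Commute A B := by
      refine Perm.Disjoint.commute fun z => ?_
      by_cases hz : (z : ℕ) < 3
      · right
        refine Equiv.swap_apply_of_ne_of_ne ?_ ?_ <;> simp [Fin.ext_iff] <;> omega
      · left
        refine Equiv.swap_apply_of_ne_of_ne ?_ ?_ <;> (intro h; rw [h] at hz; simp at hz)
    have hA : A * A = 1 := Equiv.swap_mul_self _ _
    calc A * B * θ σ * (B * A) = B * (A * θ σ) * (B * A) := by rw [hAB.eq]; group
      _ = B * θ σ * (A * B) * A := by rw [hd.eq]; group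
      _ = B * θ σ * B * (A * A) := by rw [hAB.eq]; group
      _ = B * θ σ * B := by rw [hA, mul_one]

end CfsgLib.SLPres
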