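import Cfsg.Agent.Lib.SLPres.Glue

/-!
The gluing relations hold in `SL_n(F)`.
-/

set_option autoImplicit false

namespace CfsgLib.SLPres

open Equiv
open CfsgLib.BoundedPres (first3 first3_inj first3_ne_fourth fourth dswap coe_dswap oppA blockSL permSL
  blockSL_root permSL_conj transvection_commute)
open CfsgLib.PresentSL3 (sT cT coe_sT coe_transvectionT)

variable {F : Type*} [Field F] {m : ℕ}

theorem sT_conj_tr {i j : Fin 3} (hij : i ≠ j) (v : F) :
    sT * Matrix.SpecialLinearGroup.transvection hij v * sT =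
      Matrix.SpecialLinearGroup.transvection ((Equiv.swap (0 : Fin 3) 1).injective.ne hij) v := by
  apply Subtype.ext
  simp only [Matrix.SpecialLinearGroup.coe_mul, coe_transvectionT, coe_sT]
  fin_cases i <;> fin_cases j <;> first | exact absurd rfl hij | skip
  all_goals
    ext a b
    fin_cases a <;> fin_cases b <;>
      simp [Matrix.mul_apply, Matrix.vecMul, dotProduct, Fin.sum_univ_three, Matrix.transvection,
        Matrix.single, Equiv.swap_apply_def]

theorem transvection_congr {n : ℕ} {i j i' j' : Fin n} (hij : i ≠ j) (hij' : i' ≠ j') (hi : i = i') (hj : j = j')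
    (v : F) : Matrix.SpecialLinearGroup.transvection hij v = Matrix.SpecialLinearGroup.transvection hij' v := by
  subst hi; subst hj; rfl

/-- The root elements on which a permutation may be compared with the reflection. -/
def rootSet (S : Set (Fin 3)) : Set (Matrix.SpecialLinearGroup (Fin 3) F) :=
  {g | ∃ (i j : Fin 3) (hij : i ≠ j) (v : F), i ∈ S ∧ j ∈ S ∧ g = Matrix.SpecialLinearGroup.transvection hij v}

theorem rev_target (τ : alternatingGroup (Fin (3 + m))) (S : Set (Fin 3))
    (hτ : ∀ i ∈ S, (τ : Perm (Fin (3 + m))) (first3 m i) = first3 m (Equiv.swap 0 1 i))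
    {g : Matrix.SpecialLinearGroup (Fin 3) F} (hg : g ∈ Subgroup.closure (rootSet S)) :
    Commute ((blockSL (3 + m) m rfl sT)⁻¹ * permSL (3 + m) τ) (blockSL (3 + m) m rfl g) := by
  refine commute_of_mem (blockSL (3 + m) m rfl) ?_ hg
  rintro _ ⟨i, j, hij, v, hi, hj, rfl⟩
  have hne := (Equiv.swap (0 : Fin 3) 1).injective.ne hij
  rw [blockSL_root hij v]
  show _ = _
  rw [← mul_inv_eq_iff_eq_mul, mul_inv_rev, inv_inv,
    show (blockSL (F := F) (3 + m) m rfl sT)⁻¹ * permSL (3 + m) τ *
      Matrix.SpecialLinearGroup.transvection ((first3_inj m).ne hij) v *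
      ((permSL (3 + m) τ)⁻¹ * blockSL (3 + m) m rfl sT) =
      (blockSL (F := F) (3 + m) m rfl sT)⁻¹ * (permSL (3 + m) τ *
        Matrix.SpecialLinearGroup.transvection ((first3_inj m).ne hij) v * (permSL (3 + m) τ)⁻¹) *
        blockSL (3 + m) m rfl sT by group, permSL_conj,
    transvection_congr _ ((first3_inj m).ne hne) (hτ i hi) (hτ j hj), ← blockSL_root hne, ← blockSL_root hij,
    ← map_inv, ← map_mul, ← map_mul, sT_inv, sT_conj_tr]
  congr 1
  exact transvection_congr _ _ (Equiv.swap_apply_self _ _ _) (Equiv.swap_apply_self _ _ _) v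

theorem fix_target (σ : alternatingGroup (Fin (3 + m))) (S : Set (Fin 3))
    (hσ : ∀ i ∈ S, (σ : Perm (Fin (3 + m))) (first3 m i) = first3 m i)
    {g : Matrix.SpecialLinearGroup (Fin 3) F} (hg : g ∈ Subgroup.closure (rootSet S)) :
    Commute (permSL (3 + m) σ) (blockSL (3 + m) m rfl g) := by
  refine commute_of_mem (blockSL (3 + m) m rfl) ?_ hg
  rintro _ ⟨i, j, hij, v, hi, hj, rfl⟩
  rw [blockSL_root hij v]
  have e := permSL_conj (F := F) σ ((first3_inj m).ne hij) v
  rw [transvection_congr _ ((first3_inj m).ne hij) (hσ i hi) (hσ j hj), mul_inv_eq_iff_eq_mul] at e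
  exact e

theorem Lsub_le_rootSet : Lsub F ≤ Subgroup.closure (rootSet ({0, 1} : Set (Fin 3))) := by
  refine Subgroup.closure_mono (Set.union_subset ?_ ?_) <;> rintro _ ⟨v, rfl⟩
  · exact ⟨0, 1, by decide, v, by simp, by simp, rfl⟩
  · exact ⟨1, 0, by decide, v, by simp, by simp, rfl⟩

theorem mem_rootSet_univ (g : Matrix.SpecialLinearGroup (Fin 3) F) :
    g ∈ Subgroup.closure (rootSet (Set.univ : Set (Fin 3))) := by
  rw [CfsgLib.Linear.SL_eq_top_of_transvection_mem (Subgroup.closure (rootSet (Set.univ : Set (Fin 3))))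
    fun i j hij v => Subgroup.subset_closure ⟨i, j, hij, v, trivial, trivial, rfl⟩]
  exact Subgroup.mem_top g

theorem opp_target (hm : 1 ≤ m) {g g' : Matrix.SpecialLinearGroup (Fin 3) F} (hg : g ∈ Lsub F)
    (hg' : g' ∈ Lsub F) :
    Commute (blockSL (3 + m) m rfl g)
      (permSL (3 + m) (oppA m hm) * blockSL (3 + m) m rfl g' * (permSL (3 + m) (oppA m hm))⁻¹) := by
  have hE := first3_inj m
  have hne := first3_ne_fourth (m := m) hm
  obtain ⟨o0, -, o1, -⟩ := CfsgLib.BoundedPres.dswap_apply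
    (hab := hE.ne (show (0 : Fin 3) ≠ 2 by decide)) (hcd := hne 1)
    (hE.ne (show (0 : Fin 3) ≠ 1 by decide)) (hne 0) (hE.ne (show (2 : Fin 3) ≠ 1 by decide)) (hne 2)
  have himg : ∀ a ∈ ({0, 1} : Set (Fin 3)), ∀ b ∈ ({0, 1} : Set (Fin 3)),
      first3 m a ≠ (oppA m hm : Perm (Fin (3 + m))) (first3 m b) := by
    intro a ha b hb
    have o0' : (oppA m hm : Perm (Fin (3 + m))) (first3 m 0) = first3 m 2 := o0
    have o1' : (oppA m hm : Perm (Fin (3 + m))) (first3 m 1) = fourth m hm := o1
    rcases ha with rfl | rfl <;> rcases hb with rfl | rfl <;> simp only [o0', o1'] <;>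
      first | exact hne _ | exact hE.ne (by decide)
  refine (commute_of_mem (blockSL (3 + m) m rfl) (fun x hx => ?_) (Lsub_le_rootSet hg)).symm
  obtain ⟨i, j, hij, v, hi, hj, rfl⟩ := hx
  refine (commute_of_mem ((MulAut.conj (permSL (F := F) (3 + m) (oppA m hm))).toMonoidHom.comp
    (blockSL (3 + m) m rfl)) (fun y hy => ?_) (Lsub_le_rootSet hg')).symm
  obtain ⟨k, l, hkl, u, hk, hl, rfl⟩ := hy
  show Commute _ (permSL (3 + m) (oppA m hm) * blockSL (3 + m) m rfl _ * (permSL (3 + m) (oppA m hm))⁻¹)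
  rw [blockSL_root hij v, blockSL_root hkl u, permSL_conj]
  exact transvection_commute _ _ (himg i hi l hl) (himg j hj k hk) v u

end CfsgLib.SLPres
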