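import Cfsg.Agent.Lib.PresentSL3.Target
import Mathlib.Algebra.QuadraticAlgebra.Basic

/-!
Explicit words for the fields with four and nine elements.
-/

set_option autoImplicit false

namespace CfsgLib.SLPres

open CfsgLib.PresentSL3 (cT coe_cT)

/-- The product of a word in two letters. -/
def word {M : Type*} [Monoid M] (a b : M) (l : List Bool) : M := (l.map fun t => if t then b else a).prod

theorem map_word {M N : Type*} [Monoid M] [Monoid N] (f : M →* N) (a b : M) (l : List Bool) :
    f (word a b l) = word (f a) (f b) l := by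
  rw [word, word, map_list_prod, List.map_map]
  congr 1
  refine List.map_congr_left fun t _ => ?_
  cases t <;> simp

theorem word_mem {G : Type*} [Group G] {H : Subgroup G} {a b : G} (ha : a ∈ H) (hb : b ∈ H)
    (l : List Bool) : word a b l ∈ H := by
  refine H.list_prod_mem fun z hz => ?_
  obtain ⟨t, -, rfl⟩ := List.mem_map.1 hz
  cases t
  exacts [ha, hb]

/-- The field with four elements, as a ring. -/
abbrev K4 := QuadraticAlgebra (ZMod 2) 1 1

/-- The field with nine elements, as a ring. -/
abbrev K9 := QuadraticAlgebra (ZMod 3) 1 1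

theorem exists_hom {F : Type*} [CommRing F] (p : ℕ) [Fact p.Prime] [CharP F p] {w : F} (hw : w * w = w + 1) :
    ∃ f : QuadraticAlgebra (ZMod p) 1 1 →+* F, f ⟨0, 1⟩ = w := by
  let : Algebra (ZMod p) F := ZMod.algebra F p
  refine ⟨(QuadraticAlgebra.lift ⟨w, by simpa [add_comm] using hw⟩).toRingHom, ?_⟩
  simp [QuadraticAlgebra.lift]

/-- A word identity of matrices transported to the special linear group. -/
theorem transport {K F : Type*} [CommRing K] [CommRing F] (f : K →+* F) {A B T : Matrix (Fin 3) (Fin 3) K}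
    {a b t : Matrix.SpecialLinearGroup (Fin 3) F} (ha : (a : Matrix (Fin 3) (Fin 3) F) = A.map f)
    (hb : (b : Matrix (Fin 3) (Fin 3) F) = B.map f) (ht : (t : Matrix (Fin 3) (Fin 3) F) = T.map f)
    (l : List Bool) (h : word A B l = T) : word a b l = t := by
  let φ : Matrix.SpecialLinearGroup (Fin 3) F →* Matrix (Fin 3) (Fin 3) F :=
    { toFun := fun g => g.1, map_one' := rfl, map_mul' := fun _ _ => rfl }
  apply Subtype.ext
  show φ (word a b l) = (t : Matrix (Fin 3) (Fin 3) F)
  rw [map_word, ht, ← h]
  show word (a : Matrix (Fin 3) (Fin 3) F) b l = (f.mapMatrix : _ →+* _).toMonoidHom (word A B l)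
  rw [map_word, ha, hb]
  rfl

/-- The element generating with the rotation, over four elements. -/
def Y4 : Matrix (Fin 3) (Fin 3) K4 := !![⟨0, 1⟩, ⟨1, 1⟩, 0; 0, ⟨1, 1⟩, 0; 0, 0, 1]

/-- The rotation. -/
def C4 : Matrix (Fin 3) (Fin 3) K4 := !![0, 0, 1; 1, 0, 0; 0, 1, 0]

theorem word_four_one :
    word Y4 C4 [true, false, true, false, false, true, false, true, false, false, true, false, true, false, false, true] =
      !![1, 1, 0; 0, 1, 0; 0, 0, 1] := by
  decide +kernel

theorem word_four_gen :
    word Y4 C4 [false, false, true, false, true, false, false, true, false, true, false, false, true, false, true, false, false, true, false] =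
      !![1, ⟨0, 1⟩, 0; 0, 1, 0; 0, 0, 1] := by
  decide +kernel

/-- The element generating with its reflection, over nine elements. -/
def A9 : Matrix (Fin 3) (Fin 3) K9 := !![⟨0, 1⟩, ⟨0, 1⟩, 0; 0, ⟨2, 1⟩, 0; 0, 0, 1]

/-- Its reflection. -/
def B9 : Matrix (Fin 3) (Fin 3) K9 := !![⟨2, 1⟩, 0, 0; ⟨0, 1⟩, ⟨0, 1⟩, 0; 0, 0, 1]

theorem word_nine_one :
    word A9 B9 [false, true, true, false, false, false, true, true, false, false, true] =
      !![1, 1, 0; 0, 1, 0; 0, 0, 1] := by
  decide +kernel

theorem word_nine_gen :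
    word A9 B9 [false, true, true, false, true, false, false] = !![1, ⟨0, 1⟩, 0; 0, 1, 0; 0, 0, 1] := by
  decide +kernel

end CfsgLib.SLPres
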